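import Groth.Agent.Lefpen.H713.Trait2
import Groth.Agent.S0254
import Groth.Agent.Hensel.Exist
import Mathlib.FieldTheory.SeparableClosure

/-!
# The trait of the line at `t = c` inside a valuation ring of the separable closure of `k(t)`

* `henselian_valuationSubring`: a valuation ring of a separably closed field is strictly henselian;
* `IsTraitIn k c W R t`: `R` (a discrete valuation ring, strict henselization of `P^1` at `t = c`)
  is embedded in `W`, compatibly with `k(t)`, and is fixed by the inertia group at `W`;
* `exists_isTraitIn`: existence;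
* `IsTraitIn.isSepClosure`: `Ω` is a separable closure of the fraction field of `R`.
-/

set_option autoImplicit false

open CategoryTheory AlgebraicGeometry IsLocalRing
open Groth.Agent.Etrest.StrictLoc
open Groth.Agent.Lefpen.H713.RingPt

universe u

namespace Groth.Agent.Lefpen.H713.Trait1

section Val

variable {Ω : Type u} [Field Ω] (W : ValuationSubring Ω)

/-- a valuation ring of a separably closed field is strictly henselian -/
theorem henselian_valuationSubring [IsSepClosed Ω] :
    HenselianLocalRing W ∧ IsSepClosed (ResidueField W) := by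
  have : IsSepClosed (FractionRing W) :=
    Groth.Agent.Hensel.Exist.isSepClosed_of_ringEquiv (FractionRing.algEquiv W Ω).toRingEquiv
  exact Groth.Agent.S0254.result W

end Val

section In

variable (k : Type u) [Field k] (c : k) {Ω : Type u} [Field Ω] [Algebra (RatFunc k) Ω]
  (W : ValuationSubring Ω)

/-- `R` is the strict henselization of `P^1` at `t = c`, embedded in the valuation ring `W` of the
separable closure `Ω` of `k(t)` and fixed by inertia. -/
structure IsTraitIn (R : Type u) [CommRing R] [IsLocalRing R] [Algebra k R] [Algebra R Ω] (t : R) :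
    Prop extends IsTrait k c R t where
  inj : Function.Injective (algebraMap R Ω)
  memW : ∀ x : R, algebraMap R Ω x ∈ W
  loc : ∀ x ∈ maximalIdeal R, W.valuation (algebraMap R Ω x) < 1
  const : ∀ a : k, algebraMap R Ω (algebraMap k R a) = algebraMap (RatFunc k) Ω (RatFunc.C a)
  gen : algebraMap R Ω t = algebraMap (RatFunc k) Ω RatFunc.X
  inertia : ∀ σ : Ω ≃ₐ[RatFunc k] Ω, SGA7.IsInertia W σ →
    ∀ x : R, σ (algebraMap R Ω x) = algebraMap R Ω x

theorem exists_isTraitIn [IsAlgClosed k] [IsSepClosed Ω] (hW : LefMon.LiesOverPt c W) :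
    ∃ (R : Type u) (_ : CommRing R) (_ : IsDomain R) (_ : IsDiscreteValuationRing R) (_ : Algebra k R)
      (_ : Algebra R Ω) (t : R), IsTraitIn k c W R t := by
  obtain ⟨R, _, _, _, _, t, h⟩ := exists_isTrait k c
  have hens := henselian_valuationSubring W
  have := hens.1
  let kW : k →+* W := RingHom.codRestrict ((algebraMap (RatFunc k) Ω).comp RatFunc.C) W.toSubring
    hW.1
  let alW : Algebra k W := kW.toAlgebra
  have hX : algebraMap (RatFunc k) Ω RatFunc.X ∈ W := by
    have h1 : algebraMap (RatFunc k) Ω (RatFunc.X - RatFunc.C c) ∈ W :=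
      (W.mem_of_valuation_le_one _ hW.2.le)
    have h2 := add_mem h1 (hW.1 c)
    rw [← map_add, sub_add_cancel] at h2
    exact h2
  let b : W := ⟨algebraMap (RatFunc k) Ω RatFunc.X, hX⟩
  have hbc : ((b - algebraMap k W c : W) : Ω) =
      algebraMap (RatFunc k) Ω (RatFunc.X - RatFunc.C c) := by
    rw [map_sub]
    rfl
  have hb : b - algebraMap k W c ∈ maximalIdeal W := by
    refine (W.valuation_lt_one_iff _).2 ?_
    rw [hbc]
    exact hW.2
  obtain ⟨g, hg, hu⟩ := h.existsUnique W b hb
  have hgloc : ∀ x ∈ maximalIdeal R, g x ∈ maximalIdeal W := by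
    intro x hx
    rw [h.maxIdeal, Ideal.mem_span_singleton] at hx
    obtain ⟨y, rfl⟩ := hx
    rw [map_mul, map_sub, g.commutes, hg]
    exact Ideal.mul_mem_right _ _ hb
  let alΩ : Algebra R Ω := (W.subtype.comp (g : R →+* W)).toAlgebra
  have hval : ∀ x : R, algebraMap R Ω x = (g x : Ω) := fun _ => rfl
  have hb0 : b - algebraMap k W c ≠ 0 := by
    intro h0
    have h3 := hbc
    rw [h0] at h3
    have h4 : (RatFunc.X - RatFunc.C c : RatFunc k) = 0 := by
      apply (algebraMap (RatFunc k) Ω).injective
      rw [← h3, map_zero]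
      rfl
    have h5 : (Polynomial.X - Polynomial.C c : Polynomial k) = 0 := by
      apply RatFunc.algebraMap_injective k
      rw [map_sub, RatFunc.algebraMap_X, RatFunc.algebraMap_C, h4, map_zero]
    exact Polynomial.X_sub_C_ne_zero c h5
  refine ⟨R, inferInstance, inferInstance, inferInstance, inferInstance, alΩ, t,
    ⟨h, ?_, ?_, ?_, ?_, ?_, ?_⟩⟩
  · rw [injective_iff_map_eq_zero]
    intro x hx
    have hk : RingHom.ker (g : R →+* W) = ⊥ := by
      have hp : (RingHom.ker (g : R →+* W)).IsPrime := RingHom.ker_isPrime _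
      by_contra hne
      have hmax := IsPrime.to_maximal_ideal hne
      have h6 : t - algebraMap k R c ∈ RingHom.ker (g : R →+* W) := by
        rw [IsLocalRing.eq_maximalIdeal hmax]
        exact h.mem
      apply hb0
      have h7 : g (t - algebraMap k R c) = 0 := h6
      rw [map_sub, g.commutes, hg] at h7
      exact h7
    have h8 : x ∈ RingHom.ker (g : R →+* W) := by
      change g x = 0
      apply Subtype.ext
      exact hx
    rw [hk] at h8
    exact h8
  · intro x
    exact (g x).2
  · intro x hx
    rw [hval]
    exact (W.valuation_lt_one_iff _).1 (hgloc x hx)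
  · intro a
    rw [hval, g.commutes]
    rfl
  · rw [hval, hg]
  · intro σ hσ x
    let s : W →+* W := RingHom.codRestrict ((σ : Ω →+* Ω).comp W.subtype) W.toSubring
      (fun y => (hσ y y.2).1)
    have hs : ∀ y : W, (s y : Ω) = σ y := fun _ => rfl
    let g' : R →ₐ[k] W := { s.comp (g : R →+* W) with
      commutes' := fun a => by
        apply Subtype.ext
        change σ (g (algebraMap k R a) : Ω) = _
        rw [g.commutes]
        exact σ.commutes _ }
    have h9 : g' = g := by
      apply hu
      apply Subtype.ext
      change σ (g t : Ω) = _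
      rw [hg]
      exact σ.commutes _
    have h10 := congrArg (fun f => ((f x : W) : Ω)) h9
    exact h10

variable {k c W}

theorem isInertia_of_isWildInertia {σ : Ω ≃ₐ[RatFunc k] Ω} (h : LefMon.IsWildInertia W σ) :
    SGA7.IsInertia W σ := by
  intro x hx
  refine ⟨h.1 x hx, ?_⟩
  by_cases h0 : x = 0
  · rw [h0, map_zero, sub_zero, map_zero]
    exact zero_lt_one
  · have h1 : σ x - x = (σ x / x - 1) * x := by
      field_simp
    rw [h1, map_mul]
    have h2 := (W.valuation_le_one_iff x).2 hx
    exact mul_lt_one_of_lt_of_le (h.2 x h0) h2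

section Field

variable {R : Type u} [CommRing R] [IsLocalRing R] [Algebra k R] [Algebra R Ω] {t : R}

/-- the geometric generic point factors through the trait -/
theorem IsTraitIn.geomGenPt_eq (h : IsTraitIn k c W R t) :
    LefMon.geomGenPt k Ω = Spec.map (CommRingCat.ofHom (algebraMap R Ω)) ≫ ringPt k R t := by
  let alΩ : Algebra k Ω := ((algebraMap (RatFunc k) Ω).comp RatFunc.C).toAlgebra
  have h1 : Spec.map (CommRingCat.ofHom (algebraMap R Ω)) ≫ ringPt k R t =
      ringPt k Ω (algebraMap (RatFunc k) Ω RatFunc.X) :=
    (comp_ringPt_iff (algebraMap R Ω) t _).2 ⟨RingHom.ext h.const, h.gen⟩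
  rw [h1, LefMon.geomGenPt, LefMon.genPt, fieldPt_eq]
  exact (comp_ringPt_iff (algebraMap (RatFunc k) Ω) RatFunc.X _).2 ⟨rfl, rfl⟩

/-- the closed point of the trait is the point `t = c` -/
theorem IsTrait.resPt_eq (h : IsTrait k c R t) :
    resPt R ≫ ringPt k R t = spm (algebraMap k (ResidueField R)) ≫ LefMon.fieldPt k k c := by
  rw [resPt_ringPt h.mem, fieldPt_eq]

/-- `Ω` is a separable closure of the fraction field of the trait -/
theorem IsTraitIn.isSepClosure [IsDomain R] [IsSepClosure (RatFunc k) Ω] (h : IsTraitIn k c W R t)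
    (K : Type u) [Field K] [Algebra R K] [IsFractionRing R K] [Algebra K Ω] [IsScalarTower R K Ω] :
    IsSepClosure K Ω := by
  let φ : Polynomial k →+* K := (algebraMap R K).comp (Polynomial.aeval t : Polynomial k →ₐ[k] R).toRingHom
  have h1 : (algebraMap K Ω).comp φ =
      (algebraMap (RatFunc k) Ω).comp (algebraMap (Polynomial k) (RatFunc k)) := by
    apply Polynomial.ringHom_ext
    · intro a
      change algebraMap K Ω (algebraMap R K (Polynomial.aeval t (Polynomial.C a))) = _
      rw [Polynomial.aeval_C, ← IsScalarTower.algebraMap_apply R K Ω, h.const]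
      rfl
    · change algebraMap K Ω (algebraMap R K (Polynomial.aeval t Polynomial.X)) = _
      rw [Polynomial.aeval_X, ← IsScalarTower.algebraMap_apply R K Ω, h.gen]
      rw [RingHom.comp_apply, RatFunc.algebraMap_X]
  have h2 : Function.Injective φ := by
    have h3 : Function.Injective ((algebraMap K Ω).comp φ) := by
      rw [h1]
      exact (algebraMap (RatFunc k) Ω).injective.comp (RatFunc.algebraMap_injective k)
    exact Function.Injective.of_comp h3
  let f : RatFunc k →+* K := IsFractionRing.lift h2
  have h4 : (algebraMap K Ω).comp f = algebraMap (RatFunc k) Ω := by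
    apply IsLocalization.ringHom_ext (nonZeroDivisors (Polynomial k))
    rw [← h1, RingHom.comp_assoc]
    congr 1
    apply RingHom.ext
    intro x
    exact IsFractionRing.lift_algebraMap h2 x
  let al : Algebra (RatFunc k) K := f.toAlgebra
  have tow : IsScalarTower (RatFunc k) K Ω := IsScalarTower.of_algebraMap_eq' h4.symm
  have hs : Algebra.IsSeparable (RatFunc k) Ω := IsSepClosure.separable
  have hc : IsSepClosed Ω := IsSepClosure.sep_closed (RatFunc k)
  exact ⟨hc, Algebra.isSeparable_tower_top_of_isSeparable (RatFunc k) K Ω⟩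

/-- an element of the inertia group as an automorphism over the fraction field of the trait -/
theorem IsTraitIn.exists_algEquiv [IsDomain R] (h : IsTraitIn k c W R t)
    (K : Type u) [Field K] [Algebra R K] [IsFractionRing R K] [Algebra K Ω] [IsScalarTower R K Ω]
    (σ : Ω ≃ₐ[RatFunc k] Ω) (hσ : SGA7.IsInertia W σ) :
    ∃ s : Ω ≃ₐ[K] Ω, ∀ x, s x = σ x := by
  have h1 : ∀ x : K, σ (algebraMap K Ω x) = algebraMap K Ω x := by
    intro x
    have h2 : ((σ : Ω →+* Ω).comp (algebraMap K Ω)) = algebraMap K Ω := by
      apply IsLocalization.ringHom_ext (nonZeroDivisors R)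
      apply RingHom.ext
      intro r
      change σ (algebraMap K Ω (algebraMap R K r)) = algebraMap K Ω (algebraMap R K r)
      rw [← IsScalarTower.algebraMap_apply R K Ω, h.inertia σ hσ r]
    exact congrArg (fun g => g x) h2
  exact ⟨{ (σ : Ω ≃+* Ω) with commutes' := h1 }, fun x => rfl⟩

end Field

end In

end Groth.Agent.Lefpen.H713.Trait1
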