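import Mathlib.RingTheory.GradedAlgebra.Homogeneous.Ideal
import Mathlib.RingTheory.Ideal.Quotient.Operations

/-!
# The quotient of a graded algebra by a homogeneous ideal

* `quotGr 𝒜 J`: the image grading on `A ⧸ J`.
* `quotGraded`: it is a grading if `J` is homogeneous.
-/

set_option autoImplicit false

universe u v w

namespace Groth.Agent.Lefpen.H713.GrQuot

open DirectSum

variable {k : Type u} [CommRing k] {A : Type v} [CommRing A] [Algebra k A]
variable {M : Type w} [AddMonoid M] [DecidableEq M] (𝒜 : M → Submodule k A) [GradedAlgebra 𝒜]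
variable (J : Ideal A)

omit [AddMonoid M] [DecidableEq M] [GradedAlgebra 𝒜] in
/-- the image grading on a quotient -/
def quotGr (m : M) : Submodule k (A ⧸ J) := (𝒜 m).map (Ideal.Quotient.mkₐ k J).toLinearMap

omit [AddMonoid M] [DecidableEq M] [GradedAlgebra 𝒜] in
lemma mk_mem_quotGr {m : M} {a : A} (ha : a ∈ 𝒜 m) : Ideal.Quotient.mk J a ∈ quotGr 𝒜 J m :=
  ⟨a, ha, rfl⟩

/-- the composition of the decomposition with the quotient map -/
noncomputable def preDec : A →+ DirectSum M fun m => quotGr 𝒜 J m :=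
  (DirectSum.map fun m => ((Ideal.Quotient.mkₐ k J).toLinearMap.restrict
    (p := 𝒜 m) (q := quotGr 𝒜 J m) fun a ha => ⟨a, ha, rfl⟩).toAddMonoidHom).comp
    (DirectSum.decomposeAddEquiv 𝒜).toAddMonoidHom

lemma preDec_apply (a : A) (m : M) : (preDec 𝒜 J a m : A ⧸ J) =
    Ideal.Quotient.mk J (DirectSum.decompose 𝒜 a m : A) := rfl

variable {J}

/-- the decomposition map of the quotient -/
noncomputable def quotDec (hJ : ∀ a ∈ J, ∀ m, (DirectSum.decompose 𝒜 a m : A) ∈ J) :
    A ⧸ J →+ DirectSum M fun m => quotGr 𝒜 J m :=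
  QuotientAddGroup.lift J.toAddSubgroup (preDec 𝒜 J) (by
    intro a ha
    rw [AddMonoidHom.mem_ker]
    ext m
    rw [preDec_apply]
    exact Ideal.Quotient.eq_zero_iff_mem.2 (hJ a ha m))

variable (hJ : ∀ a ∈ J, ∀ m, (DirectSum.decompose 𝒜 a m : A) ∈ J)

lemma quotDec_mk (a : A) (m : M) : (quotDec 𝒜 hJ (Ideal.Quotient.mk J a) m : A ⧸ J) =
    Ideal.Quotient.mk J (DirectSum.decompose 𝒜 a m : A) := rfl

/-- the grading of the quotient by a homogeneous ideal -/
@[implicit_reducible]
noncomputable def quotGraded : GradedAlgebra (quotGr 𝒜 J) where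
  one_mem := mk_mem_quotGr 𝒜 J SetLike.GradedOne.one_mem
  mul_mem := by
    rintro i j _ _ ⟨a, ha, rfl⟩ ⟨b, hb, rfl⟩
    exact ⟨a * b, SetLike.GradedMul.mul_mem ha hb, map_mul (Ideal.Quotient.mkₐ k J) _ _⟩
  decompose' := quotDec 𝒜 hJ
  left_inv := by
    intro x
    obtain ⟨a, rfl⟩ := Ideal.Quotient.mk_surjective x
    classical
    have h1 : ∀ y : DirectSum M fun m => quotGr 𝒜 J m, DirectSum.coeAddMonoidHom (quotGr 𝒜 J) y =
        ∑ m ∈ DFinsupp.support y, (y m : A ⧸ J) := by
      intro y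
      rw [DirectSum.coeAddMonoidHom_eq_dfinsuppSum]
      rfl
    rw [h1]
    conv_rhs => rw [← DirectSum.sum_support_decompose 𝒜 a, map_sum]
    apply Finset.sum_subset_zero_on_sdiff
    · intro m hm
      by_contra hms
      rw [DFinsupp.mem_support_iff] at hm
      apply hm
      ext
      rw [quotDec_mk]
      rw [DFinsupp.notMem_support_iff] at hms
      rw [hms]
      exact map_zero _
    · intro m hm
      rw [Finset.mem_sdiff, DFinsupp.notMem_support_iff] at hm
      have h2 := quotDec_mk 𝒜 hJ a m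
      rw [hm.2] at h2
      exact h2.symm
    · intro m _
      exact quotDec_mk 𝒜 hJ a m
  right_inv := by
    intro x
    induction x using DirectSum.induction_on with
    | zero => simp
    | of i x =>
      obtain ⟨_, a, ha, rfl⟩ := x
      rw [DirectSum.coeAddMonoidHom_of]
      ext m
      change (quotDec 𝒜 hJ (Ideal.Quotient.mk J a) m : A ⧸ J) = _
      rw [quotDec_mk]
      by_cases h : i = m
      · subst h
        rw [DirectSum.decompose_of_mem_same 𝒜 ha, DirectSum.of_eq_same]
        rfl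
      · rw [DirectSum.decompose_of_mem_ne 𝒜 ha h, DirectSum.of_eq_of_ne _ _ _ (Ne.symm h), map_zero]
        rfl
    | add x y hx hy => rw [map_add, map_add, hx, hy]

/-- a homogeneous ideal satisfies the hypothesis of `quotGraded` -/
lemma homog_of_isHomogeneous (h : J.IsHomogeneous 𝒜) :
    ∀ a ∈ J, ∀ m, (DirectSum.decompose 𝒜 a m : A) ∈ J := fun _ ha m => h m ha

/-- the ideal spanned by a homogeneous element is homogeneous -/
lemma homog_span {d : M} {q : A} (hq : q ∈ 𝒜 d) :
    ∀ a ∈ Ideal.span {q}, ∀ m, (DirectSum.decompose 𝒜 a m : A) ∈ Ideal.span {q} :=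
  homog_of_isHomogeneous 𝒜 (Ideal.homogeneous_span 𝒜 {q} (by
    rintro x rfl
    exact ⟨d, hq⟩))

end Groth.Agent.Lefpen.H713.GrQuot
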