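import Groth.Agent.Sga5.ProjHyper
import Groth.Agent.Ega3B.ProjProper
import Groth.Agent.Lefpen.H713.GrQuot

/-!
# Projective hypersurfaces over a ring

For a homogeneous polynomial `q : CohB1.polyGrading n R d` over any ring `R`:

* `Hyp q`: the hypersurface `V_+(q)` in `P^n_R`, `Proj` of the quotient ring;
* `emb q : Hyp q ⟶ CohB1.ProjSpace n R` is a closed immersion, `toSpec q` is proper;
* `chartH q i : Spec (MvPolynomial (Fin n) R ⧸ (dehom_i q)) ⟶ Hyp q` is an open immersion over
  `Spec R`; these charts cover; `isPullback_chartH`.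
-/

set_option autoImplicit false

open CategoryTheory AlgebraicGeometry MvPolynomial HomogeneousLocalization
open Groth.Agent.Sga5.ProjChart Groth.Agent.Sga5.ProjSmooth Groth.Agent.Sga5.ProjSurj
open Groth.Agent.Sga5.ProjHyper
open Groth.Agent.Lefpen.H713.GrQuot

universe u

namespace Groth.Agent.Lefpen.H713.HypProj

variable {n : ℕ} {R : Type u} [CommRing R] {d : ℕ} (q : ↥(CohB1.polyGrading n R d))

/-- the homogeneous coordinate ring -/
abbrev CR : Type u := MvPolynomial (Fin (n + 1)) R ⧸ Ideal.span {q.1}

/-- its grading -/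
noncomputable def gr : ℕ → Submodule R (CR q) :=
  quotGr (CohB1.polyGrading n R) (Ideal.span {q.1})

noncomputable instance : GradedAlgebra (gr q) :=
  quotGraded (CohB1.polyGrading n R) (homog_span (CohB1.polyGrading n R) q.2)

/-- the graded projection -/
noncomputable def prG : CohB1.polyGrading n R →+*ᵍ gr q where
  toRingHom := Ideal.Quotient.mk _
  map_mem := fun h => mk_mem_quotGr (CohB1.polyGrading n R) _ h

lemma prG_apply (p : MvPolynomial (Fin (n + 1)) R) : prG q p = Ideal.Quotient.mk _ p := rfl

lemma degSurj_prG : DegSurj (prG q) := by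
  rintro i _ ⟨a, ha, rfl⟩
  exact ⟨a, ha, rfl⟩

/-- the hypersurface -/
noncomputable def Hyp : Scheme.{u} := Proj (gr q)

/-- the closed immersion into projective space -/
noncomputable def emb : Hyp q ⟶ CohB1.ProjSpace n R :=
  Proj.map (prG q) (irrelevant_le_map (degSurj_prG q))

instance isClosedImmersion_emb : IsClosedImmersion (emb q) :=
  isClosedImmersion_map _ (degSurj_prG q)

/-- the structure morphism -/
noncomputable def toSpec : Hyp q ⟶ Spec (CommRingCat.of R) := emb q ≫ CohB1.ProjSpace.toSpec n R

instance isProper_toSpec : IsProper (toSpec q) := by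
  have h1 : IsProper (CohB1.ProjSpace.toSpec n R) := Ega3B.ProjProper.isProper_toSpec n R
  exact MorphismProperty.comp_mem @IsProper _ _ inferInstance h1

variable (i : Fin (n + 1))

/-- the ring of the chart `T_i ≠ 0` -/
abbrev ChR : Type u := MvPolynomial (Fin n) R ⧸ Ideal.span {dehom n R i q.1}

lemma toPoly_mk {e : ℕ} (a : MvPolynomial (Fin (n + 1)) R) (ha : a ∈ CohB1.polyGrading n R (e • 1)) :
    toPoly n R i (Away.mk (CohB1.polyGrading n R) (X_mem n R i) e a ha) = dehom n R i a := by
  rw [toPoly, RingHom.comp_apply, HomogeneousLocalization.algebraMap_apply, Away.val_mk]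
  have h : Localization.mk a (⟨(X i : MvPolynomial (Fin (n + 1)) R) ^ e, e, rfl⟩ :
      Submonoid.powers (X i : MvPolynomial (Fin (n + 1)) R)) *
      aM n R i (X i ^ e) = aM n R i a := by
    rw [Localization.mk_eq_mk']
    exact IsLocalization.mk'_spec (Localization.Away (X i : MvPolynomial (Fin (n + 1)) R)) a
      (⟨X i ^ e, e, rfl⟩ : Submonoid.powers (X i : MvPolynomial (Fin (n + 1)) R))
  have h2 := congrArg (IsLocalization.Away.lift (S := Localization.Away (X i : MvPolynomial (Fin (n + 1)) R))
    (X i) (g := dehom n R i) (by simp)) h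
  rw [map_mul, IsLocalization.Away.lift_eq, IsLocalization.Away.lift_eq] at h2
  have h3 : dehom n R i (X i ^ e) = 1 := by rw [map_pow, dehom_X_self, one_pow]
  exact (mul_one _).symm.trans ((congrArg _ h3.symm).trans h2)

lemma chartEquiv_dehom {e : ℕ} (a : MvPolynomial (Fin (n + 1)) R)
    (ha : a ∈ CohB1.polyGrading n R (e • 1)) :
    chartEquiv n R i (dehom n R i a) = Away.mk (CohB1.polyGrading n R) (X_mem n R i) e a ha := by
  obtain ⟨p, hp⟩ := (chartEquiv n R i).surjective
    (Away.mk (CohB1.polyGrading n R) (X_mem n R i) e a ha)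
  have h1 : toPoly n R i (chartEquiv n R i p) = p := toPoly_ofPoly n R i p
  rw [hp, toPoly_mk] at h1
  rw [h1, hp]

/-- the map from the polynomial ring to the degree zero localization -/
noncomputable def toAway : MvPolynomial (Fin n) R →+* Away (gr q) (prG q (X i)) :=
  (Away.map (prG q) (X i)).comp (chartEquiv n R i : MvPolynomial (Fin n) R →+* _)

lemma toAway_surjective : Function.Surjective (toAway q i) :=
  (away_map_surjective (degSurj_prG q) (X i) (X_mem n R i)).comp (chartEquiv n R i).surjective

lemma toAway_dehom {e : ℕ} (a : MvPolynomial (Fin (n + 1)) R)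
    (ha : a ∈ CohB1.polyGrading n R (e • 1)) :
    toAway q i (dehom n R i a) = Away.mk (gr q) ((prG q).2 (X_mem n R i)) e (prG q a) ((prG q).2 ha) := by
  rw [toAway, RingHom.comp_apply]
  change Away.map (prG q) (X i) (chartEquiv n R i (dehom n R i a)) = _
  rw [chartEquiv_dehom i a ha]
  exact Away.map_mk ..

lemma ker_toAway : RingHom.ker (toAway q i) = Ideal.span {dehom n R i q.1} := by
  apply le_antisymm
  · intro r hr
    obtain ⟨e, a, ha, hz⟩ := Away.mk_surjective _ (X_mem n R i) (chartEquiv n R i r)
    have h1 : r = dehom n R i a := by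
      have := toPoly_ofPoly n R i r
      rw [← this]
      change toPoly n R i (chartEquiv n R i r) = _
      rw [← hz, toPoly_mk]
    rw [h1] at hr ⊢
    rw [RingHom.mem_ker, toAway_dehom q i a ha] at hr
    have h2 := congrArg HomogeneousLocalization.val hr
    rw [Away.val_mk, HomogeneousLocalization.val_zero, ← Localization.mk_zero 1,
      Localization.mk_eq_mk_iff, Localization.r_iff_exists] at h2
    obtain ⟨⟨_, N, rfl⟩, h3⟩ := h2
    simp only [Submonoid.coe_one, one_mul, mul_zero] at h3
    have h4 : (Ideal.Quotient.mk (Ideal.span {q.1})) (X i ^ N * a) = 0 := by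
      rw [map_mul, map_pow]
      exact h3
    rw [Ideal.Quotient.eq_zero_iff_mem, Ideal.mem_span_singleton] at h4
    obtain ⟨h, hh⟩ := h4
    have h5 := congrArg (dehom n R i) hh
    rw [map_mul, map_pow, dehom_X_self, one_pow, one_mul, map_mul] at h5
    rw [h5]
    exact Ideal.mul_mem_right _ _ (Ideal.mem_span_singleton_self _)
  · rw [Ideal.span_singleton_le_iff_mem, RingHom.mem_ker,
      toAway_dehom q i q.1 (e := d) (by simp)]
    apply HomogeneousLocalization.val_injective
    rw [Away.val_mk, HomogeneousLocalization.val_zero]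
    have : prG q q.1 = 0 := by
      rw [prG_apply, Ideal.Quotient.eq_zero_iff_mem]
      exact Ideal.mem_span_singleton_self _
    rw [this, Localization.mk_zero]

/-- the chart ring is the degree-zero localization -/
noncomputable def chEquiv : ChR q i ≃+* Away (gr q) (prG q (X i)) :=
  (Ideal.quotEquivOfEq (ker_toAway q i).symm).trans
    (RingHom.quotientKerEquivOfSurjective (toAway_surjective q i))

lemma chEquiv_mk (p : MvPolynomial (Fin n) R) :
    chEquiv q i (Ideal.Quotient.mk _ p) = toAway q i p := rfl

/-- the chart `T_i ≠ 0` of the hypersurface -/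
noncomputable def chartH : Spec (CommRingCat.of (ChR q i)) ⟶ Hyp q :=
  Spec.map (CommRingCat.ofHom (chEquiv q i).symm.toRingHom) ≫
    Proj.awayι (gr q) (prG q (X i)) ((prG q).2 (X_mem n R i)) Nat.one_pos

instance isIso_chEquiv : IsIso (Spec.map (CommRingCat.ofHom (chEquiv q i).symm.toRingHom)) := by
  have : IsIso (CommRingCat.ofHom (chEquiv q i).symm.toRingHom) :=
    (ConcreteCategory.isIso_iff_bijective _).mpr (chEquiv q i).symm.bijective
  infer_instance

instance isOpenImmersion_chartH : IsOpenImmersion (chartH q i) := by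
  have h1 : IsOpenImmersion (Proj.awayι (gr q) (prG q (X i)) ((prG q).2 (X_mem n R i)) Nat.one_pos) :=
    IsOpenImmersion.comp _ _
  exact MorphismProperty.comp_mem (W := @IsOpenImmersion) _ _ inferInstance h1

theorem opensRange_chartH : (chartH q i).opensRange = Proj.basicOpen (gr q) (prG q (X i)) := by
  have h1 : IsOpenImmersion (Proj.awayι (gr q) (prG q (X i)) ((prG q).2 (X_mem n R i)) Nat.one_pos) :=
    IsOpenImmersion.comp _ _
  refine Eq.trans ?_ (Proj.opensRange_awayι (gr q) (prG q (X i)) ((prG q).2 (X_mem n R i)) Nat.one_pos)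
  exact @Scheme.Hom.opensRange_comp_of_isIso _ _ _ _ _ _ h1

@[reassoc]
theorem chartH_emb : chartH q i ≫ emb q =
    Spec.map (CommRingCat.ofHom (Ideal.Quotient.mk (Ideal.span {dehom n R i q.1}))) ≫ chart n R i := by
  have h1 := Proj.awayι_comp_map (prG q) (irrelevant_le_map (degSurj_prG q)) Nat.one_pos (X i)
    (X_mem n R i)
  rw [chartH, chart, emb, Category.assoc]
  refine (congrArg (fun t => Spec.map (CommRingCat.ofHom (chEquiv q i).symm.toRingHom) ≫ t) h1).trans ?_
  rw [← Category.assoc, ← Category.assoc, ← Spec.map_comp, ← Spec.map_comp]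
  congr 2
  apply CommRingCat.hom_ext
  apply RingHom.ext
  intro x
  obtain ⟨p, rfl⟩ := (chartEquiv n R i).surjective x
  change (chEquiv q i).symm (Away.map (prG q) (X i) (chartEquiv n R i p)) =
    Ideal.Quotient.mk _ ((chartEquiv n R i).symm (chartEquiv n R i p))
  rw [RingEquiv.symm_apply_eq, chEquiv_mk, RingEquiv.symm_apply_apply]
  rfl

@[reassoc]
theorem chartH_toSpec : chartH q i ≫ toSpec q = Spec.map (CommRingCat.ofHom (algebraMap R (ChR q i))) := by
  rw [toSpec, chartH_emb_assoc, chart_toSpec, ← Spec.map_comp]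
  rfl

/-- the charts are cut out of the charts of projective space -/
theorem isPullback_chartH : IsPullback
    (Spec.map (CommRingCat.ofHom (Ideal.Quotient.mk (Ideal.span {dehom n R i q.1}))))
    (chartH q i) (chart n R i) (emb q) := by
  apply IsOpenImmersion.isPullback
  · exact chartH_emb q i
  · rw [opensRange_chart, opensRange_chartH]
    exact Proj.map_preimage_basicOpen (prG q) (irrelevant_le_map (degSurj_prG q)) (X i)

theorem exists_mem_chartH (x : Hyp q) : ∃ i, x ∈ (chartH q i).opensRange := by
  obtain ⟨i, hi⟩ := exists_mem_chart n R (emb q x)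
  refine ⟨i, ?_⟩
  rw [opensRange_chart] at hi
  rw [opensRange_chartH]
  have h := Proj.map_preimage_basicOpen (prG q) (irrelevant_le_map (degSurj_prG q)) (X i)
  rw [← h]
  exact hi

/-- the chart cover -/
noncomputable def chartCover : (Hyp q).OpenCover :=
  Scheme.Cover.mkOfCovers (Fin (n + 1)) (fun i => Spec (CommRingCat.of (ChR q i)))
    (fun i => chartH q i) (fun x => by
      obtain ⟨i, y, hy⟩ := exists_mem_chartH q x
      exact ⟨i, y, hy⟩) (fun i => inferInstance)

/-- membership in a chart, for points of another chart -/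
theorem mem_chartH_iff (i j : Fin (n + 1)) (y : Spec (CommRingCat.of (ChR q i))) :
    chartH q i y ∈ (chartH q j).opensRange ↔
      Ideal.Quotient.mk (Ideal.span {dehom n R i q.1}) (dehom n R i (X j)) ∉ y.asIdeal := by
  rw [opensRange_chartH]
  have h1 : chartH q i ⁻¹ᵁ (Proj.basicOpen (gr q) (prG q (X j))) =
      PrimeSpectrum.basicOpen ((Ideal.Quotient.mk (Ideal.span {dehom n R i q.1})) (dehom n R i (X j)) :
        ChR q i) := by
    have h2 := Proj.awayι_preimage_basicOpen (gr q) (f := prG q (X i)) (g := prG q (X j))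
      ((prG q).2 (X_mem n R i)) Nat.one_pos ((prG q).2 (X_mem n R j)) Nat.one_pos
    refine (congrArg (fun V => Spec.map (CommRingCat.ofHom (chEquiv q i).symm.toRingHom) ⁻¹ᵁ V)
      h2).trans ?_
    have h3 : (chEquiv q i).symm (Away.isLocalizationElem ((prG q).2 (X_mem n R i))
        ((prG q).2 (X_mem n R j))) = Ideal.Quotient.mk _ (dehom n R i (X j)) := by
      rw [RingEquiv.symm_apply_eq, chEquiv_mk, toAway_dehom q i (X j) (e := 1) (by simpa using X_mem n R j)]
      apply HomogeneousLocalization.val_injective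
      rw [Away.isLocalizationElem, Away.val_mk, Away.val_mk]
      congr 1
      exact pow_one _
    rw [← h3]
    rfl
  rw [← PrimeSpectrum.mem_basicOpen, ← h1]
  rfl

end Groth.Agent.Lefpen.H713.HypProj
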