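import Groth.Prelude.Def_LefMon
import Mathlib.FieldTheory.IsSepClosed
import Mathlib.FieldTheory.Galois.Basic
import Mathlib.FieldTheory.PrimitiveElement
import Mathlib.RingTheory.Valuation.ValuationSubring
import Mathlib.Algebra.BigOperators.Field

/-!
# Automorphisms all of whose orbits have length prime to `N`

* `CopPow N σ`: every element is fixed by a power of `σ` with positive exponent prime to `N`.
* `copPow_of_wild`: elements of the wild inertia at a valuation ring in which `N` is a unit.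
* `coprime_finrank`: if `L` is the fixed field of `σ`, the finite Galois extensions of `L` have degree
  prime to `N`.
-/

set_option autoImplicit false
universe u v

namespace Groth.Agent.Lefpen.H713.TWild

/-- Every element is fixed by a power of `σ` with positive exponent prime to `N`. -/
def CopPow (N : ℕ) {K : Type u} {Ω : Type v} [Field K] [Field Ω] [Algebra K Ω] (σ : Ω ≃ₐ[K] Ω) : Prop :=
  ∀ x : Ω, ∃ m : ℕ, 0 < m ∧ m.Coprime N ∧ (σ ^ m) x = x

section wild

variable {K : Type u} {Ω : Type v} [Field K] [Field Ω] [Algebra K Ω] (W : ValuationSubring Ω)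

/-- `τ x / x` is a principal unit for all `x ≠ 0`. -/
def PU (τ : Ω ≃ₐ[K] Ω) : Prop := ∀ x : Ω, x ≠ 0 → W.valuation (τ x / x - 1) < 1

variable {W}

theorem PU.one : PU W (1 : Ω ≃ₐ[K] Ω) := by
  intro x hx
  rw [AlgEquiv.one_apply, div_self hx, sub_self, map_zero]
  exact zero_lt_one

theorem val_eq_one {v : Ω} (hv : W.valuation (v - 1) < 1) : W.valuation v = 1 := by
  have h := W.valuation.map_one_add_of_lt hv
  rwa [add_sub_cancel] at h

theorem PU.mul {τ σ : Ω ≃ₐ[K] Ω} (hτ : PU W τ) (hσ : PU W σ) : PU W (τ * σ) := by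
  intro x hx
  have hs : σ x ≠ 0 := by
    intro h
    exact hx ((map_eq_zero_iff σ σ.injective).1 h)
  have h1 := hτ (σ x) hs
  have h2 := hσ x hx
  have h3 : (τ * σ) x / x - 1 = (τ (σ x) / σ x - 1) * (σ x / x) + (σ x / x - 1) := by
    rw [AlgEquiv.mul_apply]
    field_simp
    ring
  rw [h3]
  refine lt_of_le_of_lt (W.valuation.map_add _ _) (max_lt ?_ h2)
  rw [map_mul, val_eq_one h2, mul_one]
  exact h1

theorem PU.pow {τ : Ω ≃ₐ[K] Ω} (hτ : PU W τ) (n : ℕ) : PU W (τ ^ n) := by
  induction n with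
  | zero => rw [pow_zero]; exact PU.one
  | succ n ih => rw [pow_succ]; exact ih.mul hτ

theorem fix_of_pow_fix {τ : Ω ≃ₐ[K] Ω} (hτ : PU W τ) (r : ℕ) (hr : W.valuation (r : Ω) = 1) (x : Ω)
    (hx : (τ ^ r) x = x) : τ x = x := by
  by_contra hne
  let z : Ω := x - τ x
  have hz : z ≠ 0 := sub_ne_zero.2 (Ne.symm hne)
  have h1 : ∑ i ∈ Finset.range r, (τ ^ i) z = 0 := by
    have h2 : ∀ i ∈ Finset.range r, (τ ^ i) z = (τ ^ i) x - (τ ^ (i + 1)) x := by
      intro i _
      rw [map_sub, pow_succ, AlgEquiv.mul_apply]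
    rw [Finset.sum_congr rfl h2, Finset.sum_range_sub', pow_zero, hx, AlgEquiv.one_apply, sub_self]
  have h3 : (r : Ω) = - ∑ i ∈ Finset.range r, ((τ ^ i) z / z - 1) := by
    rw [Finset.sum_sub_distrib, ← Finset.sum_div, h1, zero_div, zero_sub, neg_neg]
    simp
  have h4 : W.valuation (r : Ω) < 1 := by
    rw [h3, Valuation.map_neg]
    refine W.valuation.map_sum_lt one_ne_zero fun i _ => ?_
    exact (hτ.pow i) z hz
  exact absurd hr h4.ne

theorem val_natCast_le (n : ℕ) : W.valuation (n : Ω) ≤ 1 := by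
  rw [W.valuation_le_one_iff]
  exact natCast_mem W n

theorem val_eq_one_of_dvd {d N : ℕ} (h : d ∣ N) (hN : W.valuation (N : Ω) = 1) :
    W.valuation (d : Ω) = 1 := by
  obtain ⟨e, rfl⟩ := h
  rw [Nat.cast_mul, map_mul] at hN
  refine le_antisymm (val_natCast_le d) ?_
  rw [← hN]
  exact mul_le_of_le_one_right' (val_natCast_le e)

theorem exists_coprime_fix {σ : Ω ≃ₐ[K] Ω} (hσ : PU W σ) {N : ℕ} (hN : W.valuation (N : Ω) = 1)
    (x : Ω) (m : ℕ) (hm : 0 < m) (hx : (σ ^ m) x = x) :
    ∃ m : ℕ, 0 < m ∧ m.Coprime N ∧ (σ ^ m) x = x := by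
  induction m using Nat.strong_induction_on with
  | _ m ih =>
    by_cases hc : m.Coprime N
    · exact ⟨m, hm, hc, hx⟩
    · have hd : 1 < Nat.gcd m N := by
        have h0 : 0 < Nat.gcd m N := Nat.gcd_pos_of_pos_left _ hm
        have h1 : Nat.gcd m N ≠ 1 := hc
        omega
      obtain ⟨m₁, hm₁⟩ := Nat.gcd_dvd_left m N
      have hpos : 0 < m₁ := by
        rcases Nat.eq_zero_or_pos m₁ with h | h
        · rw [h, mul_zero] at hm₁; omega
        · exact h
      refine ih m₁ ?_ hpos ?_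
      · calc m₁ < Nat.gcd m N * m₁ := by nlinarith
          _ = m := hm₁.symm
      · refine fix_of_pow_fix (hσ.pow m₁) (Nat.gcd m N)
          (val_eq_one_of_dvd (Nat.gcd_dvd_right m N) hN) x ?_
        rw [← pow_mul, mul_comm, ← hm₁]
        exact hx

theorem exists_pow_fix [Algebra.IsAlgebraic K Ω] (σ : Ω ≃ₐ[K] Ω) (x : Ω) :
    ∃ m : ℕ, 0 < m ∧ (σ ^ m) x = x := by
  have hfin : ((minpoly K x).rootSet Ω).Finite := (minpoly K x).rootSet_finite Ω
  have hmem : ∀ i : ℕ, (σ ^ i) x ∈ (minpoly K x).rootSet Ω := by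
    intro i
    rw [Polynomial.mem_rootSet]
    refine ⟨minpoly.ne_zero (Algebra.IsIntegral.isIntegral x), ?_⟩
    rw [Polynomial.aeval_algHom_apply (σ ^ i : Ω ≃ₐ[K] Ω), minpoly.aeval, map_zero]
  have := hfin.to_subtype
  obtain ⟨i, j, hij, h⟩ := Finite.exists_ne_map_eq_of_infinite
    (fun i : ℕ => (⟨(σ ^ i) x, hmem i⟩ : (minpoly K x).rootSet Ω))
  have h' : (σ ^ i) x = (σ ^ j) x := congrArg Subtype.val h
  have key : ∀ i j : ℕ, i < j → (σ ^ i) x = (σ ^ j) x → ∃ m : ℕ, 0 < m ∧ (σ ^ m) x = x := by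
    intro i j hij h
    refine ⟨j - i, by omega, ?_⟩
    apply (σ ^ i).injective
    rw [h, ← AlgEquiv.mul_apply, ← pow_add]
    congr 2
    omega
  rcases lt_or_gt_of_ne hij with hl | hl
  · exact key i j hl h'
  · exact key j i hl h'.symm

theorem copPow_of_wild [Algebra.IsAlgebraic K Ω] {σ : Ω ≃ₐ[K] Ω} (hσ : PU W σ) {N : ℕ}
    (hN : W.valuation (N : Ω) = 1) : CopPow N σ := by
  intro x
  obtain ⟨m, hm, hx⟩ := exists_pow_fix σ x
  exact exists_coprime_fix hσ hN x m hm hx

end wild

section galois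

variable {L : Type u} {Ω : Type v} [Field L] [Field Ω] [Algebra L Ω] [IsSepClosed Ω] {N : ℕ}
  {σ : Ω ≃ₐ[L] Ω}

/-- Finite Galois extensions of the fixed field have degree prime to `N`. -/
theorem coprime_finrank (hσ : CopPow N σ) (hfix : ∀ x, σ x = x → ∃ c : L, algebraMap L Ω c = x)
    (M : Type u) [Field M] [Algebra L M] [FiniteDimensional L M] [IsGalois L M] :
    (Module.finrank L M).Coprime N := by
  let φ : M →ₐ[L] Ω := IsSepClosed.lift
  let _ : Algebra M Ω := φ.toRingHom.toAlgebra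
  have : IsScalarTower L M Ω := IsScalarTower.of_algebraMap_eq fun r => (φ.commutes r).symm
  let τ : M ≃ₐ[L] M := σ.restrictNormal M
  have hτ : ∀ y, φ (τ y) = σ (φ y) := fun y => AlgEquiv.restrictNormal_commutes σ M y
  have hτn : ∀ (n : ℕ) (y : M), φ ((τ ^ n) y) = (σ ^ n) (φ y) := by
    intro n
    induction n with
    | zero => intro y; simp
    | succ n ih =>
      intro y
      rw [pow_succ, pow_succ, AlgEquiv.mul_apply, AlgEquiv.mul_apply, ih, hτ]
  -- the fixed field of `τ` is `L`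
  have h1 : IntermediateField.fixedField (Subgroup.zpowers τ) = ⊥ := by
    rw [eq_bot_iff]
    intro y hy
    have hy' : τ y = y := hy ⟨τ, Subgroup.mem_zpowers τ⟩
    obtain ⟨c, hc⟩ := hfix (φ y) (by rw [← hτ, hy'])
    refine IntermediateField.mem_bot.2 ⟨c, ?_⟩
    apply φ.toRingHom.injective
    change φ (algebraMap L M c) = φ y
    rw [φ.commutes, hc]
  have h2 : Subgroup.zpowers τ = ⊤ := by
    have h3 := IntermediateField.fixingSubgroup_fixedField (Subgroup.zpowers τ)
    rw [h1] at h3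
    rw [← h3]
    exact IntermediateField.fixingSubgroup_bot
  have h3 : Module.finrank L M = orderOf τ := by
    rw [← IsGalois.card_aut_eq_finrank, ← Nat.card_zpowers, h2, Subgroup.card_top]
  obtain ⟨α, hα⟩ := Field.exists_primitive_element L M
  obtain ⟨m, hm, hc, hx⟩ := hσ (φ α)
  have h4 : (τ ^ m) = 1 := by
    have h5 : (τ ^ m) α = α := φ.toRingHom.injective (by
      change φ ((τ ^ m) α) = φ α
      rw [hτn, hx])
    have h6 : ∀ y ∈ (⊤ : IntermediateField L M), (τ ^ m) y = y := by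
      rw [← hα]
      intro y hy
      induction hy using IntermediateField.adjoin_induction with
      | mem y hy => rw [Set.mem_singleton_iff.1 hy, h5]
      | algebraMap y => exact (τ ^ m).commutes y
      | add a b _ _ ha hb => rw [map_add, ha, hb]
      | inv a _ ha => rw [map_inv₀, ha]
      | mul a b _ _ ha hb => rw [map_mul, ha, hb]
    ext y
    exact h6 y IntermediateField.mem_top
  rw [h3]
  exact Nat.Coprime.coprime_dvd_left (orderOf_dvd_of_pow_eq_one h4) hc

end galois

end Groth.Agent.Lefpen.H713.TWild
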