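import Groth.Agent.Lefpen.H713.Trait1

/-!
# The trait of the projective line at a rational point: existence and universal property

`k` algebraically closed, `c : k`.

* `IsTrait k c R t`: the local `k`-algebra `R` with the element `t` is a strict localization of `P^1`
  at `t = c` and `t - c` generates the maximal ideal;
* `exists_isTrait`: existence, with `R` a discrete valuation ring;
* `IsTrait.residue_bijective`, `IsTrait.existsUnique`: universal property.
-/

set_option autoImplicit false

open CategoryTheory AlgebraicGeometry MvPolynomial IsLocalRing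
open Groth.Agent.Sga5.ProjChart Groth.Agent.Sga5.ProjSmooth Groth.Agent.Etrest.StrictLoc
open Groth.Agent.Lefpen.H713.RingPt

universe u

namespace Groth.Agent.Lefpen.H713.Trait1

section Lemmas

variable {k : Type u} [Field k]

theorem ringPt_inj {B : Type u} [CommRing B] [Algebra k B] {b b' : B}
    (h : ringPt k B b = ringPt k B b') : b = b' := by
  rw [ringPt, ringPt, cancel_mono] at h
  have h1 := congrArg CommRingCat.Hom.hom (Spec.map_injective h)
  have h2 := congrArg (fun f => f (X 0)) h1
  change ev k B b (X 0) = ev k B b' (X 0) at h2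
  rwa [ev_X, ev_X] at h2

/-- maps of points of the line are `k`-algebra homomorphisms -/
theorem comp_ringPt_iff {B B' : Type u} [CommRing B] [Algebra k B] [CommRing B'] [Algebra k B']
    (g : B →+* B') (b : B) (b' : B') :
    spm g ≫ ringPt k B b = ringPt k B' b' ↔ g.comp (algebraMap k B) = algebraMap k B' ∧ g b = b' := by
  constructor
  · intro h
    have h1 : g.comp (algebraMap k B) = algebraMap k B' := by
      have h2 := congrArg (fun q => q ≫ CohB1.ProjSpace.toSpec 1 k) h
      simp only [Category.assoc, ringPt_toSpec] at h2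
      rw [← spm_comp] at h2
      exact spm_inj.1 h2
    refine ⟨h1, ?_⟩
    rw [map_ringPt k g h1 b] at h
    exact ringPt_inj h
  · rintro ⟨h1, rfl⟩
    exact map_ringPt k g h1 b

end Lemmas

variable (k : Type u) [Field k] (c : k)

/-- `R` is the strict henselization of the projective line at `t = c` -/
structure IsTrait (R : Type u) [CommRing R] [IsLocalRing R] [Algebra k R] (t : R) : Prop where
  strictLoc : IsStrictLoc (ringPt k R t)
  maxIdeal : maximalIdeal R = Ideal.span {t - algebraMap k R c}

theorem exists_isTrait :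
    ∃ (R : Type u) (_ : CommRing R) (_ : IsDomain R) (_ : IsDiscreteValuationRing R) (_ : Algebra k R)
      (t : R), IsTrait k c R t := by
  obtain ⟨hd, hv, φ, hφ, hm⟩ := exists_stalk_data k c
  obtain ⟨R, _, _, _, _, hR, -⟩ := Groth.Agent.Hensel.Exist.exists_isStrictHenselization
    (R := (CohB1.ProjSpace 1 k).presheaf.stalk (pt k c))
  have hreg : IsRegularLocalRing R :=
    (Groth.Agent.S2743.result ((CohB1.ProjSpace 1 k).presheaf.stalk (pt k c)) R).2 inferInstance
  have hdR : ringKrullDim R = 1 := by
    rw [Groth.Agent.S0541.result ((CohB1.ProjSpace 1 k).presheaf.stalk (pt k c)) R,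
      IsDiscreteValuationRing.ringKrullDim_eq_one]
  have hdom : IsDomain R := Groth.Agent.Ega2.RegLow.isDomain R hdR.le
  have hdvr : IsDiscreteValuationRing R :=
    Groth.Agent.Sga4h.X144Geo1.isDiscreteValuationRing R hdR
  have hsl : IsStrictLoc (Hens2.specOf (CohB1.ProjSpace 1 k) (pt k c) R) :=
    isStrictLoc_specOf (CohB1.ProjSpace 1 k) (pt k c) R
  let al : Algebra k R := (((algebraMap ((CohB1.ProjSpace 1 k).presheaf.stalk (pt k c)) R).comp
    φ).comp C).toAlgebra
  have hev : ev k R ((algebraMap ((CohB1.ProjSpace 1 k).presheaf.stalk (pt k c)) R) (φ (X 0))) =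
      (algebraMap ((CohB1.ProjSpace 1 k).presheaf.stalk (pt k c)) R).comp φ := by
    apply ext_poly
    · intro a
      rw [ev_C]
      rfl
    · rw [ev_X]
      rfl
  refine ⟨R, inferInstance, hdom, hdvr, al,
    (algebraMap ((CohB1.ProjSpace 1 k).presheaf.stalk (pt k c)) R) (φ (X 0)), ?_, ?_⟩
  · have h1 : ringPt k R ((algebraMap ((CohB1.ProjSpace 1 k).presheaf.stalk (pt k c)) R) (φ (X 0))) =
        Hens2.specOf (CohB1.ProjSpace 1 k) (pt k c) R := by
      rw [ringPt, hev, Hens2.specOf, ← hφ, ← Category.assoc, ← Spec.map_comp]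
      rfl
    rw [h1]
    exact hsl
  · rw [← Groth.Agent.S0538.result ((CohB1.ProjSpace 1 k).presheaf.stalk (pt k c)) R, hm,
      Ideal.map_span, Set.image_singleton, map_sub, map_sub]
    rfl

variable {k c}

section Properties

variable {R : Type u} [CommRing R] [IsLocalRing R] [Algebra k R] {t : R}

theorem IsTrait.mem (h : IsTrait k c R t) : t - algebraMap k R c ∈ maximalIdeal R := by
  rw [h.maxIdeal]
  exact Ideal.mem_span_singleton_self _

theorem resPt_ringPt {T : Type u} [CommRing T] [IsLocalRing T] [Algebra k T] {b : T}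
    (hb : b - algebraMap k T c ∈ maximalIdeal T) :
    resPt T ≫ ringPt k T b = spm (algebraMap k (ResidueField T)) ≫ ringPt k k c := by
  have h1 : resPt T ≫ ringPt k T b = ringPt k (ResidueField T) (residue T b) :=
    map_ringPt k (residue T) rfl b
  have h2 : spm (algebraMap k (ResidueField T)) ≫ ringPt k k c =
      ringPt k (ResidueField T) (algebraMap k (ResidueField T) c) :=
    map_ringPt k (algebraMap k (ResidueField T)) (by ext; rfl) c
  rw [h1, h2]
  congr 1
  have h3 : residue T (b - algebraMap k T c) = 0 := (residue_eq_zero_iff _).2 hb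
  rw [map_sub, sub_eq_zero] at h3
  exact h3

theorem IsTrait.residue_bijective [IsAlgClosed k] (h : IsTrait k c R t) :
    Function.Bijective (algebraMap k (ResidueField R)) := by
  refine ⟨(algebraMap k (ResidueField R)).injective, ?_⟩
  obtain ⟨x, i, hi, hs⟩ := h.strictLoc.sep
  rw [resPt_ringPt h.mem] at hi
  obtain ⟨j, hj⟩ := exists_residueField_hom (ringPt k k c) x (point_eq hi)
  have h4 : (algebraMap k (ResidueField R)).comp j = i := by
    rw [← spm_inj, ← cancel_mono ((CohB1.ProjSpace 1 k).fromSpecResidueField x), spm_comp,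
      Category.assoc]
    refine Eq.trans ?_ hi.symm
    exact congrArg (fun q => spm (algebraMap k (ResidueField R)) ≫ q) hj
  rw [← h4] at hs
  exact hs.of_comp.surjective

/-- every element of the trait is a constant modulo the maximal ideal -/
theorem IsTrait.exists_const [IsAlgClosed k] (h : IsTrait k c R t) (x : R) :
    ∃ a : k, x - algebraMap k R a ∈ maximalIdeal R := by
  obtain ⟨a, ha⟩ := h.residue_bijective.2 (residue R x)
  refine ⟨a, ?_⟩
  rw [← residue_eq_zero_iff, map_sub, ← ha]
  exact sub_self _

/-- the universal property -/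
theorem IsTrait.existsUnique [IsAlgClosed k] [IsDomain R] (h : IsTrait k c R t)
    (T : Type u) [CommRing T] [HenselianLocalRing T] [Algebra k T] (b : T)
    (hb : b - algebraMap k T c ∈ maximalIdeal T) :
    ∃! g : R →ₐ[k] T, g t = b := by
  let e : k ≃+* ResidueField R := RingEquiv.ofBijective _ h.residue_bijective
  let τ : ResidueField R →+* ResidueField T := (algebraMap k (ResidueField T)).comp e.symm.toRingHom
  have hτ : spm τ ≫ resPt R ≫ ringPt k R t = resPt T ≫ ringPt k T b := by
    rw [resPt_ringPt h.mem, resPt_ringPt hb, ← Category.assoc, ← spm_comp]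
    congr 2
    apply RingHom.ext
    intro a
    change algebraMap k (ResidueField T) (e.symm (e a)) = _
    rw [RingEquiv.symm_apply_apply]
  obtain ⟨g, ⟨hg1, hg2⟩, hu⟩ := h.strictLoc.universal T (ringPt k T b) τ hτ
  obtain ⟨hg3, hg4⟩ := (comp_ringPt_iff g t b).1 hg1
  refine ⟨{ g with commutes' := fun a => congrArg (fun f => f a) hg3 }, hg4, ?_⟩
  intro g' hg'
  have hloc : ∀ x ∈ maximalIdeal R, g' x ∈ maximalIdeal T := by
    intro x hx
    rw [h.maxIdeal, Ideal.mem_span_singleton] at hx
    obtain ⟨y, rfl⟩ := hx
    rw [map_mul, map_sub, g'.commutes, hg']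
    exact Ideal.mul_mem_right _ _ hb
  have h5 : (g' : R →+* T) = g := by
    apply hu
    refine ⟨(comp_ringPt_iff _ t b).2 ⟨g'.comp_algebraMap, hg'⟩, ?_⟩
    intro x
    obtain ⟨a, ha⟩ := h.exists_const x
    have h6 : residue R x = e a := by
      have := (residue_eq_zero_iff _).2 ha
      rw [map_sub, sub_eq_zero] at this
      exact this
    have h7 : residue T (g' x) = algebraMap k (ResidueField T) a := by
      have := (residue_eq_zero_iff _).2 (hloc _ ha)
      rw [map_sub, map_sub, sub_eq_zero, g'.commutes] at this
      exact this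
    rw [h6]
    change residue T (g' x) = algebraMap k (ResidueField T) (e.symm (e a))
    rw [RingEquiv.symm_apply_apply, h7]
  apply AlgHom.ext
  intro x
  exact congrArg (fun f => f x) h5

end Properties

end Groth.Agent.Lefpen.H713.Trait1
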