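import Groth.Agent.Lefpen.H713.HypProj

/-!
# Isomorphisms of projective hypersurfaces from linear changes of coordinates

* `pS 𝒜 : Proj 𝒜 ⟶ Spec R` and `map_pS`: compatibility with `Proj.map` of graded `R`-algebra maps;
* `hypIso`: a pair of inverse graded algebra endomorphisms of the polynomial ring exchanging the ideals
  of two forms gives an isomorphism of the hypersurfaces over `Spec R`;
* `scale`: diagonal changes of coordinates.
-/

set_option autoImplicit false

open CategoryTheory AlgebraicGeometry MvPolynomial HomogeneousLocalization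
open Groth.Agent.Sga5.ProjChart Groth.Agent.Sga5.ProjSmooth Groth.Agent.Sga5.ProjSurj
open Groth.Agent.Lefpen.H713.GrQuot Groth.Agent.Lefpen.H713.HypProj

universe u

namespace Groth.Agent.Lefpen.H713.HypIso

section Gen

variable {R : Type u} [CommRing R] {A : Type u} [CommRing A] [Algebra R A]
  (𝒜 : ℕ → Submodule R A) [GradedAlgebra 𝒜]
  {B : Type u} [CommRing B] [Algebra R B] {ℬ : ℕ → Submodule R B} [GradedAlgebra ℬ]

/-- the structure morphism of `Proj` of a graded algebra -/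
noncomputable def pS : Proj 𝒜 ⟶ Spec (CommRingCat.of R) :=
  Proj.toSpecZero 𝒜 ≫ Spec.map (CommRingCat.ofHom (algebraMap R (𝒜 0)))

variable {𝒜}

theorem away_map_fromZero (f : 𝒜 →+*ᵍ ℬ) (hR : ∀ r : R, f (algebraMap R A r) = algebraMap R B r)
    (s : A) (r : R) : Away.map f s (fromZeroRingHom 𝒜 _ (algebraMap R (𝒜 0) r)) =
      fromZeroRingHom ℬ _ (algebraMap R (ℬ 0) r) := by
  apply HomogeneousLocalization.val_injective
  change (HomogeneousLocalization.mk _).val = (HomogeneousLocalization.mk _).val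
  rw [HomogeneousLocalization.val_mk, HomogeneousLocalization.val_mk, Localization.mk_eq_mk_iff,
    Localization.r_iff_exists]
  refine ⟨1, ?_⟩
  change (1 : B) * ((1 : B) * f (algebraMap R A r)) = 1 * (f 1 * algebraMap R B r)
  rw [hR, map_one]

@[reassoc]
theorem awayι_pS {i : ℕ} (hi : 0 < i) (s : A) (hs : s ∈ 𝒜 i) :
    Proj.awayι 𝒜 s hs hi ≫ pS 𝒜 = Spec.map (CommRingCat.ofHom
      ((fromZeroRingHom 𝒜 _).comp (algebraMap R (𝒜 0)) : R →+* Away 𝒜 s)) := by
  rw [pS, Proj.awayι_toSpecZero_assoc, ← Spec.map_comp]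
  rfl

theorem map_pS (f : 𝒜 →+*ᵍ ℬ)
    (hf : HomogeneousIdeal.irrelevant ℬ ≤ (HomogeneousIdeal.irrelevant 𝒜).map f)
    (hR : ∀ r : R, f (algebraMap R A r) = algebraMap R B r) :
    Proj.map f hf ≫ pS 𝒜 = pS ℬ := by
  refine (Proj.mapAffineOpenCover f hf).openCover.hom_ext _ _ fun s => ?_
  change Proj.awayι ℬ (f s.2) (f.2 s.2.2) s.1.2 ≫ _ = Proj.awayι ℬ (f s.2) (f.2 s.2.2) s.1.2 ≫ _
  refine (Proj.awayι_comp_map_assoc f hf s.1.2 s.2.1 s.2.2 (pS 𝒜)).trans ?_
  refine (congrArg (fun t => Spec.map (CommRingCat.ofHom (Away.map f s.2.1)) ≫ t)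
    (awayι_pS s.1.2 s.2.1 s.2.2)).trans ?_
  refine Eq.trans ?_ (awayι_pS (𝒜 := ℬ) s.1.2 (f s.2.1) (f.2 s.2.2)).symm
  rw [← Spec.map_comp]
  congr 1
  apply CommRingCat.hom_ext
  apply RingHom.ext
  intro r
  exact away_map_fromZero f hR s.2.1 r

theorem map_eq_id (F : 𝒜 →+*ᵍ 𝒜)
    (hF : HomogeneousIdeal.irrelevant 𝒜 ≤ (HomogeneousIdeal.irrelevant 𝒜).map F)
    (h : F = .id 𝒜) : Proj.map F hF = 𝟙 (Proj 𝒜) := by
  subst h
  exact Proj.map_id

end Gen

variable {n : ℕ} {R : Type u} [CommRing R] {d : ℕ}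

theorem toSpec_eq_pS (q : ↥(CohB1.polyGrading n R d)) : toSpec q = pS (gr q) :=
  map_pS (prG q) _ (fun _ => rfl)

section Maps

variable {d' : ℕ} (q : ↥(CohB1.polyGrading n R d)) (q' : ↥(CohB1.polyGrading n R d'))

/-- a graded algebra endomorphism of the polynomial ring -/
def IsGr (f : MvPolynomial (Fin (n + 1)) R →ₐ[R] MvPolynomial (Fin (n + 1)) R) : Prop :=
  ∀ e, ∀ p ∈ CohB1.polyGrading n R e, f p ∈ CohB1.polyGrading n R e

variable (f : MvPolynomial (Fin (n + 1)) R →ₐ[R] MvPolynomial (Fin (n + 1)) R)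
  (hf : IsGr f) (hq : f q.1 ∈ Ideal.span {q'.1})

/-- the map of coordinate rings -/
noncomputable def crMap : CR q →+* CR q' :=
  Ideal.Quotient.lift _ ((Ideal.Quotient.mk (Ideal.span {q'.1})).comp (f : _ →+* _)) (by
    intro a ha
    rw [Ideal.mem_span_singleton] at ha
    obtain ⟨b, rfl⟩ := ha
    rw [RingHom.comp_apply, Ideal.Quotient.eq_zero_iff_mem]
    change f (q.1 * b) ∈ _
    rw [map_mul]
    exact Ideal.mul_mem_right _ _ hq)

theorem crMap_mk (p : MvPolynomial (Fin (n + 1)) R) :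
    crMap q q' f hq (Ideal.Quotient.mk _ p) = Ideal.Quotient.mk _ (f p) := rfl

/-- the graded map of coordinate rings -/
noncomputable def grMap : gr q →+*ᵍ gr q' where
  toRingHom := crMap q q' f hq
  map_mem := by
    rintro e _ ⟨p, hp, rfl⟩
    exact ⟨f p, hf e p hp, rfl⟩

theorem grMap_mk (p : MvPolynomial (Fin (n + 1)) R) :
    grMap q q' f hf hq (Ideal.Quotient.mk _ p) = Ideal.Quotient.mk _ (f p) := rfl

variable (g : MvPolynomial (Fin (n + 1)) R →ₐ[R] MvPolynomial (Fin (n + 1)) R)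
  (hg : IsGr g) (hq' : g q'.1 ∈ Ideal.span {q.1})
  (hfg : f.comp g = AlgHom.id R _) (hgf : g.comp f = AlgHom.id R _)

include hg hfg in
theorem degSurj_grMap : DegSurj (grMap q q' f hf hq) := by
  rintro e _ ⟨p, hp, rfl⟩
  refine ⟨Ideal.Quotient.mk _ (g p), ⟨g p, hg e p hp, rfl⟩, ?_⟩
  rw [grMap_mk]
  have h1 : f (g p) = p := congrArg (fun F => F p) hfg
  rw [h1]
  rfl

include hf hq hg hq' hfg hgf in
/-- the induced isomorphism of hypersurfaces -/
theorem exists_iso : ∃ e : Hyp q' ≅ Hyp q, e.hom ≫ toSpec q = toSpec q' := by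
  have h1 := irrelevant_le_map (degSurj_grMap q q' f hf hq g hg hfg)
  have h2 := irrelevant_le_map (degSurj_grMap q' q g hg hq' f hf hgf)
  have e1 : (grMap q q' f hf hq).comp (grMap q' q g hg hq') = .id (gr q') := by
    apply DFunLike.ext
    intro x
    obtain ⟨p, rfl⟩ := Ideal.Quotient.mk_surjective x
    have h3 : f (g p) = p := congrArg (fun F => F p) hfg
    exact congrArg (Ideal.Quotient.mk (Ideal.span {q'.1})) h3
  have e2 : (grMap q' q g hg hq').comp (grMap q q' f hf hq) = .id (gr q) := by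
    apply DFunLike.ext
    intro x
    obtain ⟨p, rfl⟩ := Ideal.Quotient.mk_surjective x
    have h3 : g (f p) = p := congrArg (fun F => F p) hgf
    exact congrArg (Ideal.Quotient.mk (Ideal.span {q.1})) h3
  refine ⟨⟨Proj.map (grMap q q' f hf hq) h1, Proj.map (grMap q' q g hg hq') h2, ?_, ?_⟩, ?_⟩
  · refine (Proj.map_comp (grMap q' q g hg hq') (grMap q q' f hf hq) h2 h1).symm.trans ?_
    exact map_eq_id _ _ e1
  · refine (Proj.map_comp (grMap q q' f hf hq) (grMap q' q g hg hq') h1 h2).symm.trans ?_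
    exact map_eq_id _ _ e2
  · rw [toSpec_eq_pS, toSpec_eq_pS]
    exact map_pS (grMap q q' f hf hq) h1 (fun r => by
      change Ideal.Quotient.mk (Ideal.span {q'.1}) (f (C r)) = Ideal.Quotient.mk _ (C r)
      rw [← MvPolynomial.algebraMap_eq, f.commutes])

end Maps

section Scale

/-- the diagonal change of coordinates -/
noncomputable def scaleHom (u : Fin (n + 1) → Rˣ) :
    MvPolynomial (Fin (n + 1)) R →ₐ[R] MvPolynomial (Fin (n + 1)) R :=
  MvPolynomial.aeval (fun i => C ((u i : Rˣ) : R) * X i)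

theorem scaleHom_X (u : Fin (n + 1) → Rˣ) (i : Fin (n + 1)) :
    scaleHom u (X i : MvPolynomial (Fin (n + 1)) R) = C ((u i : Rˣ) : R) * X i := by
  rw [scaleHom, aeval_X]

theorem scaleHom_C (u : Fin (n + 1) → Rˣ) (a : R) :
    scaleHom u (C a : MvPolynomial (Fin (n + 1)) R) = C a := by
  rw [← MvPolynomial.algebraMap_eq, AlgHom.commutes]

theorem scaleHom_comp (u : Fin (n + 1) → Rˣ) :
    (scaleHom u).comp (scaleHom u⁻¹) = AlgHom.id R (MvPolynomial (Fin (n + 1)) R) := by
  apply MvPolynomial.algHom_ext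
  intro i
  rw [AlgHom.comp_apply, scaleHom_X, map_mul, scaleHom_X, scaleHom_C, ← mul_assoc, ← C_mul]
  simp

theorem scaleHom_comp' (u : Fin (n + 1) → Rˣ) :
    (scaleHom u⁻¹).comp (scaleHom u) = AlgHom.id R (MvPolynomial (Fin (n + 1)) R) := by
  have := scaleHom_comp (n := n) u⁻¹
  rwa [inv_inv] at this

theorem isGr_scaleHom (u : Fin (n + 1) → Rˣ) : IsGr (scaleHom u) := by
  intro e p hp
  have hp' : p.IsHomogeneous e := hp
  change (scaleHom u p).IsHomogeneous e
  have h1 := IsHomogeneous.aeval hp' (fun i => C ((u i : Rˣ) : R) * X i) (n := 1) (fun i => by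
    have := (isHomogeneous_C (Fin (n + 1)) ((u i : Rˣ) : R)).mul (isHomogeneous_X R i)
    rwa [zero_add] at this)
  rwa [one_mul] at h1

variable {d' : ℕ} (q : ↥(CohB1.polyGrading n R d)) (q' : ↥(CohB1.polyGrading n R d'))

/-- hypersurfaces which differ by a diagonal change of coordinates and a unit are isomorphic -/
theorem exists_iso_scale (u : Fin (n + 1) → Rˣ) (v : Rˣ)
    (h : scaleHom u q.1 = C (v : R) * q'.1) : ∃ e : Hyp q' ≅ Hyp q, e.hom ≫ toSpec q = toSpec q' := by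
  refine exists_iso q q' (scaleHom u) (isGr_scaleHom u) ?_ (scaleHom u⁻¹) (isGr_scaleHom _) ?_
    (scaleHom_comp u) (scaleHom_comp' u)
  · rw [h]
    exact Ideal.mul_mem_left _ _ (Ideal.mem_span_singleton_self _)
  · have h1 := congrArg (scaleHom u⁻¹) h
    have h2 : scaleHom u⁻¹ (scaleHom u q.1) = q.1 := congrArg (fun F => F q.1) (scaleHom_comp' u)
    rw [h2, map_mul, scaleHom_C] at h1
    rw [Ideal.mem_span_singleton]
    refine ⟨C ((v⁻¹ : Rˣ) : R), ?_⟩
    rw [h1, mul_assoc, mul_comm (scaleHom u⁻¹ q'.1), ← mul_assoc, ← C_mul]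
    simp

end Scale

end Groth.Agent.Lefpen.H713.HypIso
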