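import Groth.Agent.EtpbcA.CdEtLeray

/-!
# Degenerate Leray: vanishing of the global sections of the higher direct images

`L ⊣ G`, `P : B`, `F : A` with `Ext^p(P, R^q G F) = 0` for all `p > 0` and all `q`.  If
`Ext^n(L P, F) = 0` then `Ext^0(P, R^n G F) = 0`.
-/

set_option autoImplicit false
universe w w' v u v' u'

open CategoryTheory CategoryTheory.Limits CategoryTheory.Abelian AlgebraicGeometry Opposite
open Groth.Agent.EtpbcA.CdShift Groth.Agent.EtpbcA.CdLeray

namespace Groth.Agent.Lefpen.H713.LerayZero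

section abs

variable {A : Type u} [Category.{v} A] [Abelian A]
  {B : Type u'} [Category.{v'} B] [Abelian B]
variable [EnoughInjectives A] [HasExt.{w} A] [HasExt.{w'} B]
  {L : B ⥤ A} {G : A ⥤ B} (adj : L ⊣ G) [G.Additive] [L.PreservesMonomorphisms]

include adj

omit [EnoughInjectives A] [G.Additive] [L.PreservesMonomorphisms] in
theorem ext_zero_push (P : B) (F : A) (h0 : Subsingleton (Ext (L.obj P) F 0)) :
    Subsingleton (Ext P (G.obj F) 0) := by
  refine subsingleton_of_forall_eq 0 fun x => ?_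
  obtain ⟨f, rfl⟩ := Ext.addEquiv₀.symm.surjective x
  have h1 : (adj.homEquiv _ _).symm f = (adj.homEquiv _ _).symm 0 := by
    apply (Ext.mk₀_bijective _ _).1
    exact Subsingleton.elim _ _
  have h2 : f = 0 := (adj.homEquiv _ _).symm.injective h1
  rw [h2, map_zero]

theorem ext_zero_rightDerived (P : B) (n : ℕ) : ∀ (F : A)
    (_ : Subsingleton (Ext (L.obj P) F (n + 1)))
    (_ : ∀ p, 0 < p → Subsingleton (Ext P (G.obj F) p))
    (_ : ∀ q p, 0 < p → Subsingleton (Ext P ((G.rightDerived (q + 1)).obj F) p)),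
    Subsingleton (Ext P ((G.rightDerived (n + 1)).obj F) 0) := by
  have : PreservesFiniteLimits G := by
    have := adj.rightAdjoint_preservesLimits
    infer_instance
  induction n with
  | zero =>
    intro F h0 hG h
    obtain ⟨S, hS, hI, rfl⟩ := exists_ses F
    have hGI : Injective (G.obj S.X₂) := Injective.injective_of_adjoint adj _
    obtain ⟨e1⟩ := nonempty_shiftIso_one G hS hI
    refine subsingleton_ext_of_iso P e1 0 ?_
    refine subsingleton_of_forall_eq 0 fun x => ?_
    obtain ⟨f, rfl⟩ := Ext.addEquiv₀.symm.surjective x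
    have hC : Subsingleton (Ext P (Abelian.image (G.map S.g)) 1) :=
      ext_right (shortExact₁ G hS) P 1 (Ext.subsingleton_of_injective _ _ _) (hG 2 (by omega))
    obtain ⟨g, hg⟩ := exists_lift_of_ext_one (shortExact₂ G S) P hC f
    obtain ⟨k, hk⟩ := exists_lift_of_ext_one hS (L.obj P) h0 ((adj.homEquiv _ _).symm g)
    have h1 : g = (adj.homEquiv _ _) k ≫ G.map S.g := by
      rw [← Adjunction.homEquiv_naturality_right, hk, Equiv.apply_symm_apply]
    have h2 : f = 0 := by
      rw [← hg, h1, Category.assoc]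
      change _ ≫ G.map S.g ≫ cokernel.π (G.map S.g) = 0
      rw [cokernel.condition, comp_zero]
    rw [h2, map_zero]
  | succ n ih =>
    intro F h0 hG h
    obtain ⟨S, hS, hI, rfl⟩ := exists_ses F
    have hGI : Injective (G.obj S.X₂) := Injective.injective_of_adjoint adj _
    obtain ⟨e1⟩ := nonempty_shiftIso_one G hS hI
    obtain ⟨e⟩ := nonempty_shiftIso G hS hI n
    refine subsingleton_ext_of_iso P e 0 (ih S.X₃ ?_ ?_ ?_)
    · exact ext_right hS _ (n + 1) (Ext.subsingleton_of_injective _ _ _) h0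
    · intro p hp
      obtain ⟨p, rfl⟩ : ∃ m, p = m + 1 := ⟨p - 1, by omega⟩
      refine ext_mid (shortExact₂ G S) P (p + 1) ?_ ?_
      · exact ext_right (shortExact₁ G hS) P (p + 1) (Ext.subsingleton_of_injective _ _ _)
          (hG (p + 2) (by omega))
      · exact subsingleton_ext_of_iso P e1.symm (p + 1) (h 0 (p + 1) hp)
    · intro q p hp
      obtain ⟨e'⟩ := nonempty_shiftIso G hS hI q
      exact subsingleton_ext_of_iso P e'.symm p (h (q + 1) p hp)

end abs

section et

open Groth.Agent.EtpbcA.CdEtLeray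

universe s

variable {X Y : Scheme.{s}} (f : X ⟶ Y)

/-- Degenerate Leray: `H^n(X, F) = 0` gives `H^0(Y, R^n f_* F) = 0` if all `R^q f_* F` are acyclic. -/
theorem H0_Rpush (F : EtCoh.Ab X) (n : ℕ) (h0 : Subsingleton (EtCoh.H X F n))
    (h : ∀ q p, 0 < p → Subsingleton (EtCoh.H Y ((EtCoh.Rpush f q).obj F) p)) :
    Subsingleton (EtCoh.H Y ((EtCoh.Rpush f n).obj F) 0) := by
  have hp : PreservesFiniteLimits (EtCoh.push f) := by
    have := (EtCoh.pullPushAdj f).rightAdjoint_preservesLimits
    infer_instance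
  have e0 : (EtCoh.Rpush f 0).obj F ≅ (EtCoh.push f).obj F :=
    (EtCoh.push f).rightDerivedZeroIsoSelf.app F
  have h0' := subsingleton_ext_of_iso_left (pullZZ f).symm F n h0
  cases n with
  | zero => exact H_subsingleton_of_iso e0.symm 0 (ext_zero_push (EtCoh.pullPushAdj f) (ZZ Y) F h0')
  | succ n =>
    exact ext_zero_rightDerived (EtCoh.pullPushAdj f) (ZZ Y) n F h0'
      (fun p hp => H_subsingleton_of_iso e0 p (h 0 p hp)) (fun q p hp => h (q + 1) p hp)

/-- Degenerate Leray, with all vanishing. -/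
theorem H_of_Rpush (F : EtCoh.Ab X) (h : ∀ q p, Subsingleton (EtCoh.H Y ((EtCoh.Rpush f q).obj F) p))
    (n : ℕ) : Subsingleton (EtCoh.H X F n) := by
  have hp : PreservesFiniteLimits (EtCoh.push f) := by
    have := (EtCoh.pullPushAdj f).rightAdjoint_preservesLimits
    infer_instance
  have e0 : (EtCoh.Rpush f 0).obj F ≅ (EtCoh.push f).obj F :=
    (EtCoh.push f).rightDerivedZeroIsoSelf.app F
  exact H_subsingleton_of_leray f F n (H_subsingleton_of_iso e0 n (h 0 n)) fun p q _ => h (q + 1) p

end et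

end Groth.Agent.Lefpen.H713.LerayZero
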