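import Groth.Agent.Lefpen.H713.TWild
import Mathlib.FieldTheory.Galois.Basic
import Mathlib.FieldTheory.Normal.Basic
import Mathlib.GroupTheory.Sylow
import Mathlib.Data.Nat.ChineseRemainder
import Mathlib.Data.Nat.Factorization.Basic

/-!
# The `p`-part of an automorphism of an algebraic extension

* `exists_pPart`: an automorphism `σ` of an algebraic extension has a `p`-part `τ`: all orbits of `τ` have
  `p`-power length and `τ x = σ x` for all `x` whose `σ`-orbit has `p`-power length.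
* `exists_lift`: elements of `p`-power order of a finite Galois group lift to automorphisms all of whose
  orbits have `p`-power length.
* `exists_ext`: a property of automorphisms which holds for those automorphisms and for the automorphisms
  fixing a finite Galois extension holds for the automorphisms fixing a finite extension of degree prime
  to `p`.
-/

set_option autoImplicit false
universe u v

namespace Groth.Agent.Lefpen.H713.PLift

section arith

variable (p : ℕ) [hp : Fact p.Prime]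

/-- `j !` without its `p`-part. -/
def cj (j : ℕ) : ℕ := j.factorial / p ^ (j.factorial).factorization p

theorem coprime_cj (j : ℕ) : (p ^ j).Coprime (cj p j) := by
  refine Nat.Coprime.pow_left _ ?_
  exact Nat.coprime_ordCompl hp.out (Nat.factorial_ne_zero j)

/-- Integers which are `1` modulo high powers of `p` and `0` modulo numbers prime to `p`. -/
noncomputable def mj (j : ℕ) : ℕ := (Nat.chineseRemainder (coprime_cj p j) 1 0 : ℕ)

theorem mj_one (j : ℕ) : mj p j ≡ 1 [MOD p ^ j] := (Nat.chineseRemainder (coprime_cj p j) 1 0).2.1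

theorem mj_zero (j : ℕ) : mj p j ≡ 0 [MOD cj p j] := (Nat.chineseRemainder (coprime_cj p j) 1 0).2.2

omit hp in
theorem dvd_cj {c j : ℕ} (hc : c.Coprime p) (h0 : 0 < c) (hj : c ≤ j) : c ∣ cj p j := by
  have h1 : c ∣ j.factorial := Nat.dvd_factorial h0 hj
  rw [← Nat.ordProj_mul_ordCompl_eq_self j.factorial p] at h1
  exact (Nat.Coprime.pow_right _ hc).dvd_of_dvd_mul_left h1

theorem exists_decomp {s : ℕ} (hs : 0 < s) : ∃ b c : ℕ, s = p ^ b * c ∧ c.Coprime p ∧ 0 < c := by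
  refine ⟨s.factorization p, s / p ^ s.factorization p, (Nat.ordProj_mul_ordCompl_eq_self s p).symm,
    (Nat.coprime_ordCompl hp.out hs.ne').symm, Nat.ordCompl_pos p hs.ne'⟩

theorem mj_modEq_one {b j : ℕ} (h : p ^ b ≤ j) : mj p j ≡ 1 [MOD p ^ b] := by
  have h1 : b ≤ j := (Nat.lt_pow_self hp.out.one_lt).le.trans h
  exact (mj_one p j).of_dvd (pow_dvd_pow p h1)

theorem mj_modEq_zero {c j : ℕ} (hc : c.Coprime p) (h0 : 0 < c) (hj : c ≤ j) : mj p j ≡ 0 [MOD c] :=
  (mj_zero p j).of_dvd (dvd_cj p hc h0 hj)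

theorem mj_modEq {s i j : ℕ} (hs : 0 < s) (hi : s ≤ i) (hj : s ≤ j) : mj p i ≡ mj p j [MOD s] := by
  obtain ⟨b, c, rfl, hc, h0⟩ := exists_decomp p hs
  have hpb : 0 < p ^ b := pow_pos hp.out.pos b
  have h1 : p ^ b ≤ p ^ b * c := Nat.le_mul_of_pos_right _ h0
  have h2 : c ≤ p ^ b * c := Nat.le_mul_of_pos_left _ hpb
  have hcop : (p ^ b).Coprime c := Nat.Coprime.pow_left _ hc.symm
  rw [← Nat.modEq_and_modEq_iff_modEq_mul hcop]
  exact ⟨(mj_modEq_one p (h1.trans hi)).trans (mj_modEq_one p (h1.trans hj)).symm,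
    (mj_modEq_zero p hc h0 (h2.trans hi)).trans (mj_modEq_zero p hc h0 (h2.trans hj)).symm⟩

end arith

section ppart

variable {K : Type u} {Ω : Type v} [Field K] [Field Ω] [Algebra K Ω]

theorem pow_fix {σ : Ω ≃ₐ[K] Ω} {s : ℕ} {x : Ω} (h : (σ ^ s) x = x) (n : ℕ) : (σ ^ (s * n)) x = x := by
  induction n with
  | zero => simp
  | succ n ih => rw [Nat.mul_succ, pow_add, AlgEquiv.mul_apply, h, ih]

theorem pow_congr {σ : Ω ≃ₐ[K] Ω} {s : ℕ} {x : Ω} (h : (σ ^ s) x = x) {m n : ℕ} (hmn : m ≡ n [MOD s]) :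
    (σ ^ m) x = (σ ^ n) x := by
  have key : ∀ m n : ℕ, m ≤ n → m ≡ n [MOD s] → (σ ^ m) x = (σ ^ n) x := by
    intro m n hle hmn
    obtain ⟨k, hk⟩ := (Nat.modEq_iff_dvd' hle).1 hmn
    have h1 : n = m + s * k := by omega
    rw [h1, pow_add, AlgEquiv.mul_apply, pow_fix h]
  rcases le_total m n with h1 | h1
  · exact key m n h1 hmn
  · exact (key n m h1 hmn.symm).symm

theorem fix_pow {σ : Ω ≃ₐ[K] Ω} {s : ℕ} {x : Ω} (h : (σ ^ s) x = x) (i : ℕ) :
    (σ ^ s) ((σ ^ i) x) = (σ ^ i) x := by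
  rw [← AlgEquiv.mul_apply, ← pow_add, Nat.add_comm, pow_add, AlgEquiv.mul_apply, h]

variable (p : ℕ) [hp : Fact p.Prime]

/-- **The `p`-part of an automorphism.** -/
theorem exists_pPart [Algebra.IsAlgebraic K Ω] (σ : Ω ≃ₐ[K] Ω) :
    ∃ τ : Ω ≃ₐ[K] Ω, (∀ x, ∃ b : ℕ, (τ ^ p ^ b) x = x) ∧
      ∀ (a : ℕ) (x : Ω), (σ ^ p ^ a) x = x → τ x = σ x := by
  choose s hs0 hs using TWild.exists_pow_fix σ
  let t : Ω → Ω := fun x => (σ ^ mj p (s x)) x
  have ht : ∀ (x : Ω) (r j : ℕ), 0 < r → (σ ^ r) x = x → r ≤ j → t x = (σ ^ mj p j) x := by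
    intro x r j hr hx hj
    have h1 : (σ ^ mj p j) x = (σ ^ mj p (max j (s x))) x :=
      pow_congr hx (mj_modEq p hr hj (hj.trans (le_max_left _ _)))
    have h2 : t x = (σ ^ mj p (max j (s x))) x :=
      pow_congr (hs x) (mj_modEq p (hs0 x) le_rfl (le_max_right _ _))
    rw [h1, h2]
  have ht' : ∀ (x : Ω) (j : ℕ), s x ≤ j → t x = (σ ^ mj p j) x := fun x j hj =>
    ht x (s x) j (hs0 x) (hs x) hj
  let T : Ω →ₐ[K] Ω :=
    { toFun := t
      map_one' := by
        change (σ ^ mj p (s 1)) 1 = 1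
        rw [map_one]
      map_mul' := fun x y => by
        obtain ⟨j, h1, h2, h3⟩ : ∃ j, s (x * y) ≤ j ∧ s x ≤ j ∧ s y ≤ j :=
          ⟨s (x * y) + s x + s y, by omega, by omega, by omega⟩
        rw [ht' _ j h1, ht' _ j h2, ht' _ j h3, map_mul]
      map_zero' := by
        change (σ ^ mj p (s 0)) 0 = 0
        rw [map_zero]
      map_add' := fun x y => by
        obtain ⟨j, h1, h2, h3⟩ : ∃ j, s (x + y) ≤ j ∧ s x ≤ j ∧ s y ≤ j :=
          ⟨s (x + y) + s x + s y, by omega, by omega, by omega⟩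
        rw [ht' _ j h1, ht' _ j h2, ht' _ j h3, map_add]
      commutes' := fun c => by
        change (σ ^ mj p (s (algebraMap K Ω c))) (algebraMap K Ω c) = algebraMap K Ω c
        rw [AlgEquiv.commutes] }
  let τ : Ω ≃ₐ[K] Ω := AlgEquiv.ofBijective T (Algebra.IsAlgebraic.algHom_bijective T)
  have hτ : ∀ x, τ x = t x := fun x => rfl
  have hτn : ∀ (x : Ω) (r j : ℕ), 0 < r → (σ ^ r) x = x → r ≤ j → ∀ n : ℕ,
      (τ ^ n) x = (σ ^ (mj p j * n)) x := by
    intro x r j hr hx hj n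
    induction n with
    | zero => simp
    | succ n ih =>
      rw [pow_succ', AlgEquiv.mul_apply, ih, hτ, ht _ r j hr (fix_pow hx _) hj, ← AlgEquiv.mul_apply,
        ← pow_add]
      congr 2
      ring
  refine ⟨τ, ?_, ?_⟩
  · intro x
    obtain ⟨b, c, hbc, hc, h0⟩ := exists_decomp p (hs0 x)
    refine ⟨b, ?_⟩
    rw [hτn x (s x) (s x) (hs0 x) (hs x) le_rfl]
    have hpb : 0 < p ^ b := pow_pos hp.out.pos b
    have h1 : c ∣ mj p (s x) := by
      refine (Nat.modEq_zero_iff_dvd).1 (mj_modEq_zero p hc h0 ?_)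
      rw [hbc]
      exact Nat.le_mul_of_pos_left _ hpb
    obtain ⟨d, hd⟩ := h1
    have h2 : mj p (s x) * p ^ b = s x * d := by
      rw [hd]
      conv_rhs => rw [hbc]
      ring
    rw [h2]
    exact pow_fix (hs x) d
  · intro a x hx
    have hpa : 0 < p ^ a := pow_pos hp.out.pos a
    rw [hτ, ht x (p ^ a) (p ^ a) hpa hx le_rfl]
    have h1 := pow_congr hx (mj_modEq_one p (le_refl (p ^ a)))
    rw [h1, pow_one]

omit hp in
/-- Orbits of `p`-power length have length prime to `N`. -/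
theorem copPow {p : ℕ} (hp : p.Prime) {σ : Ω ≃ₐ[K] Ω} (h : ∀ x, ∃ b : ℕ, (σ ^ p ^ b) x = x) {N : ℕ}
    (hN : p.Coprime N) : TWild.CopPow N σ := by
  intro x
  obtain ⟨b, hb⟩ := h x
  exact ⟨p ^ b, pow_pos hp.pos b, Nat.Coprime.pow_left _ hN, hb⟩

end ppart

section lift

variable {K : Type u} {Ω : Type v} [Field K] [Field Ω] [Algebra K Ω]

/-- Elements of `p`-power order lift to automorphisms with orbits of `p`-power length. -/
theorem exists_lift [Normal K Ω] {p : ℕ} (hp : p.Prime) (L : IntermediateField K Ω) [Normal K L]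
    (g : L ≃ₐ[K] L) (a : ℕ) (hg : g ^ p ^ a = 1) :
    ∃ σ : Ω ≃ₐ[K] Ω, (∀ x : L, σ x = g x) ∧ ∀ x, ∃ b : ℕ, (σ ^ p ^ b) x = x := by
  have : Fact p.Prime := ⟨hp⟩
  have halg : Algebra.IsAlgebraic K Ω := inferInstance
  let σ : Ω ≃ₐ[K] Ω := g.liftNormal Ω
  have hσ : ∀ x : L, σ x = g x := fun x => g.liftNormal_commutes Ω x
  have hσn : ∀ (n : ℕ) (x : L), (σ ^ n) x = (g ^ n) x := by
    intro n
    induction n with
    | zero => intro x; simp
    | succ n ih =>
      intro x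
      rw [pow_succ, pow_succ, AlgEquiv.mul_apply, AlgEquiv.mul_apply, hσ, ih]
  obtain ⟨τ, h1, h2⟩ := exists_pPart p σ
  refine ⟨τ, ?_, h1⟩
  intro x
  rw [h2 a x (by rw [hσn, hg, AlgEquiv.one_apply]), hσ]

/-- **The tame extension.** -/
theorem exists_ext [IsGalois K Ω] {p : ℕ} (hp : p.Prime) (T : (Ω ≃ₐ[K] Ω) → Prop)
    (hmul : ∀ σ τ, T σ → T τ → T (σ * τ)) (L : IntermediateField K Ω) [FiniteDimensional K L]
    [IsGalois K L] (hL : ∀ σ : Ω ≃ₐ[K] Ω, (∀ x ∈ L, σ x = x) → T σ)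
    (hT : ∀ σ : Ω ≃ₐ[K] Ω, (∀ x, ∃ b : ℕ, (σ ^ p ^ b) x = x) → T σ) :
    ∃ K₁ : IntermediateField K Ω, FiniteDimensional K K₁ ∧ ¬ p ∣ Module.finrank K K₁ ∧
      ∀ σ : Ω ≃ₐ[K] Ω, (∀ x ∈ K₁, σ x = x) → T σ := by
  have : Fact p.Prime := ⟨hp⟩
  let P : Sylow p (L ≃ₐ[K] L) := default
  let K₁' : IntermediateField K L := IntermediateField.fixedField (P : Subgroup (L ≃ₐ[K] L))
  have hfix : K₁'.fixingSubgroup = (P : Subgroup (L ≃ₐ[K] L)) :=
    IntermediateField.fixingSubgroup_fixedField _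
  let K₁ : IntermediateField K Ω := IntermediateField.lift K₁'
  let e : K₁' ≃ₐ[K] K₁ := IntermediateField.liftAlgEquiv K₁'
  have hmem : ∀ x : L, x ∈ K₁' → (x : Ω) ∈ K₁ := fun x hx => (IntermediateField.mem_lift x).2 hx
  refine ⟨K₁, e.toLinearEquiv.finiteDimensional, ?_, ?_⟩
  · rw [← e.toLinearEquiv.finrank_eq, IntermediateField.finrank_eq_fixingSubgroup_index, hfix]
    exact P.not_dvd_index
  · intro σ hσ
    let g : L ≃ₐ[K] L := σ.restrictNormal L
    have hg : ∀ x : L, ((g x : L) : Ω) = σ x := fun x => σ.restrictNormal_commutes L x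
    have hgP : g ∈ (P : Subgroup (L ≃ₐ[K] L)) := by
      rw [← hfix, IntermediateField.mem_fixingSubgroup_iff]
      intro x hx
      apply Subtype.ext
      rw [hg]
      exact hσ x (hmem x hx)
    obtain ⟨a, ha⟩ := P.isPGroup' ⟨g, hgP⟩
    have ha' : g ^ p ^ a = 1 := congrArg Subtype.val ha
    obtain ⟨τ, h1, h2⟩ := exists_lift hp L g a ha'
    have h3 : σ = (σ * τ⁻¹) * τ := by rw [inv_mul_cancel_right]
    rw [h3]
    refine hmul _ _ (hL _ ?_) (hT _ h2)
    intro x hx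
    let y : L := g.symm ⟨x, hx⟩
    have h4 : τ y = x := by
      rw [h1]
      change ((g (g.symm ⟨x, hx⟩) : L) : Ω) = x
      rw [AlgEquiv.apply_symm_apply]
    have h5 : τ⁻¹ x = y := by
      rw [← h4]
      exact τ.symm_apply_apply _
    rw [AlgEquiv.mul_apply, h5, ← hg]
    change ((g (g.symm ⟨x, hx⟩) : L) : Ω) = x
    rw [AlgEquiv.apply_symm_apply]

end lift

end Groth.Agent.Lefpen.H713.PLift
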