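import Groth.Agent.Lefpen.H713.QuadGeo
import Groth.Agent.Vancyc.H517.HypBC

/-!
# Base change of projective quadrics
-/

set_option autoImplicit false

open CategoryTheory AlgebraicGeometry MvPolynomial
open Groth.Agent.Lefpen.H713.HypProj Groth.Agent.Lefpen.H713.HypIso Groth.Agent.Lefpen.H713.QuadPD
open Groth.Agent.Vancyc.H517.HypJac Groth.Agent.Vancyc.H517.Homog Groth.Agent.Vancyc.H694.StdT
open Groth.Agent.Vancyc.H517.HypBC

universe u

namespace Groth.Agent.Lefpen.H713.QuadGeo

variable {A B : Type u} [CommRing A] [CommRing B] (φ : A →+* B) {N : ℕ} (a : Fin N → Fin N → A) (b : A)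

theorem map_quadPoly : MvPolynomial.map φ (VanCyc.quadPoly a) =
    VanCyc.quadPoly (fun i j => φ (a i j)) := by
  unfold VanCyc.quadPoly
  rw [map_sum]
  refine Finset.sum_congr rfl fun i _ => ?_
  rw [map_sum]
  refine Finset.sum_congr rfl fun j _ => ?_
  split_ifs
  · rw [map_mul, map_mul, map_C, map_X, map_X]
  · exact map_zero _

theorem mapForm_quadForm : mapForm φ (quadForm a b) = quadForm (fun i j => φ (a i j)) (φ b) := by
  apply Subtype.ext
  change MvPolynomial.map φ (homog 2 (eqn a b)) = homog 2 (eqn _ _)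
  rw [map_homog, map_sub, map_C, map_quadPoly]

/-- the quadric over a base change is the base change of the quadric -/
theorem exists_isPullback : ∃ g : quad (fun i j => φ (a i j)) (φ b) ⟶ quad a b,
    IsPullback g (quadStr (fun i j => φ (a i j)) (φ b)) (quadStr a b)
      (Spec.map (CommRingCat.ofHom φ)) := by
  have h := isPullback_bc φ (quadForm a b)
  have key : ∀ (q : ↥(CohB1.polyGrading N B 2)), mapForm φ (quadForm a b) = q →
      ∃ g : Hyp q ⟶ quad a b, IsPullback g (toSpec q) (quadStr a b)
        (Spec.map (CommRingCat.ofHom φ)) := by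
    rintro _ rfl
    exact ⟨_, h⟩
  exact key _ (mapForm_quadForm φ a b)

theorem polarMatrix_map : VanCyc.polarMatrix (fun i j => φ (a i j)) = (VanCyc.polarMatrix a).map φ := by
  ext i j
  simp only [VanCyc.polarMatrix, Matrix.map_apply]
  split_ifs
  · rw [map_mul, map_ofNat]
  · rfl
  · rfl

variable {a} in
theorem QuadNondeg.map (ha : VanCyc.QuadNondeg a) : VanCyc.QuadNondeg (fun i j => φ (a i j)) := by
  rw [VanCyc.QuadNondeg, polarMatrix_map]
  have h1 : ((VanCyc.polarMatrix a).map φ).det = φ (VanCyc.polarMatrix a).det :=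
    (RingHom.map_det φ _).symm
  rw [h1]
  exact ha.map φ

theorem stdT_map (m : ℕ) : (fun i j => φ (stdT A m i j)) = stdT B m := by
  funext i j
  rw [stdT, stdT]
  split_ifs
  · exact map_one φ
  · exact map_zero φ

end Groth.Agent.Lefpen.H713.QuadGeo
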