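import Groth.Agent.Vancyc.H517.Homog
import Groth.Prelude.Def_QuadSing

/-!
# Partial derivatives of quadratic forms

* `pderiv_quadPoly`: the partial derivatives are the rows of the polar matrix;
* `X_mem_span`, `nonsingForm_quadPoly`: a non-degenerate quadratic form over any ring is a nonsingular form;
* `homog_quad`: homogenization of `Q - b`.
-/

set_option autoImplicit false

open MvPolynomial

universe u

namespace Groth.Agent.Lefpen.H713.QuadPD

open Groth.Agent.Vancyc.H517.HypJac Groth.Agent.Vancyc.H517.Homog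

variable {A : Type u} [CommRing A] {N : ℕ} (a : Fin N → Fin N → A)

theorem pderiv_quadPoly (i : Fin N) :
    pderiv i (VanCyc.quadPoly a) = ∑ j, C (VanCyc.polarMatrix a i j) * X j := by
  have h1 : ∀ k l : Fin N, pderiv i (if k ≤ l then C (a k l) * X k * X l else 0 : MvPolynomial (Fin N) A) =
      (if i = l then (if k ≤ l then C (a k l) * X k else 0) else 0) +
      (if i = k then (if k ≤ l then C (a k l) * X l else 0) else 0) := by
    intro k l
    by_cases hkl : k ≤ l
    · simp only [hkl, if_true]
      rw [pderiv_mul, pderiv_mul, pderiv_C, pderiv_X, pderiv_X, Pi.single_apply, Pi.single_apply,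
        zero_mul, zero_add, add_comm]
      congr 1
      · by_cases h : i = l
        · rw [if_pos h.symm, if_pos h, mul_one]
        · rw [if_neg (Ne.symm h), if_neg h, mul_zero]
      · by_cases h : i = k
        · rw [if_pos h.symm, if_pos h, mul_one]
        · rw [if_neg (Ne.symm h), if_neg h, mul_zero, zero_mul]
    · simp only [hkl, if_false, map_zero, ite_self, add_zero]
  have h2 : pderiv i (VanCyc.quadPoly a) =
      ∑ k, ∑ l, ((if i = l then (if k ≤ l then C (a k l) * X k else 0) else 0) +
      (if i = k then (if k ≤ l then C (a k l) * X l else 0) else 0) : MvPolynomial (Fin N) A) := by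
    rw [VanCyc.quadPoly, map_sum]
    refine Finset.sum_congr rfl fun k _ => ?_
    rw [map_sum]
    exact Finset.sum_congr rfl fun l _ => h1 k l
  rw [h2]
  simp only [Finset.sum_add_distrib]
  have h3 : ∑ k : Fin N, ∑ l : Fin N, (if i = l then (if k ≤ l then C (a k l) * X k else 0) else 0 :
      MvPolynomial (Fin N) A) = ∑ k : Fin N, (if k ≤ i then C (a k i) * X k else 0) := by
    refine Finset.sum_congr rfl fun k _ => ?_
    rw [Finset.sum_ite_eq Finset.univ i (fun l => (if k ≤ l then C (a k l) * X k else 0 :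
      MvPolynomial (Fin N) A))]
    simp
  have h4 : ∑ k : Fin N, ∑ l : Fin N, (if i = k then (if k ≤ l then C (a k l) * X l else 0) else 0 :
      MvPolynomial (Fin N) A) = ∑ l : Fin N, (if i ≤ l then C (a i l) * X l else 0) := by
    rw [Finset.sum_comm]
    refine Finset.sum_congr rfl fun l _ => ?_
    rw [Finset.sum_ite_eq Finset.univ i (fun k => (if k ≤ l then C (a k l) * X l else 0 :
      MvPolynomial (Fin N) A))]
    simp
  rw [h3, h4, ← Finset.sum_add_distrib]
  refine Finset.sum_congr rfl fun j _ => ?_
  rw [VanCyc.polarMatrix]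
  rcases lt_trichotomy i j with h | h | h
  · rw [if_neg (not_le.2 h), if_pos h.le, if_neg h.ne, if_pos h, zero_add]
  · subst h
    rw [if_pos le_rfl, if_pos rfl, ← add_mul, ← C_add, two_mul]
  · rw [if_pos h.le, if_neg (not_le.2 h), if_neg h.ne', if_neg (not_lt.2 h.le), add_zero]

/-- the partial derivatives of a non-degenerate form generate the irrelevant ideal -/
theorem X_eq_sum {a : Fin N → Fin N → A} (ha : VanCyc.QuadNondeg a) (i : Fin N) :
    (X i : MvPolynomial (Fin N) A) =
      ∑ j, C ((VanCyc.polarMatrix a)⁻¹ i j) * pderiv j (VanCyc.quadPoly a) := by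
  have h1 : (VanCyc.polarMatrix a)⁻¹ * VanCyc.polarMatrix a = 1 := Matrix.nonsing_inv_mul _ ha
  simp only [pderiv_quadPoly, Finset.mul_sum]
  rw [Finset.sum_comm]
  have h2 : ∀ l, ∑ j, C ((VanCyc.polarMatrix a)⁻¹ i j) * (C (VanCyc.polarMatrix a j l) *
      (X l : MvPolynomial (Fin N) A)) = C ((1 : Matrix (Fin N) (Fin N) A) i l) * X l := by
    intro l
    rw [← h1, Matrix.mul_apply, map_sum, Finset.sum_mul]
    refine Finset.sum_congr rfl fun j _ => ?_
    rw [C_mul, mul_assoc]
  simp only [h2]
  rw [Finset.sum_eq_single i]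
  · rw [Matrix.one_apply_eq, C_1, one_mul]
  · intro j _ hj
    rw [Matrix.one_apply_ne (Ne.symm hj), C_0, zero_mul]
  · intro h
    exact absurd (Finset.mem_univ _) h

theorem isHomogeneous_quadPoly : (VanCyc.quadPoly a).IsHomogeneous 2 := by
  unfold VanCyc.quadPoly
  refine IsHomogeneous.sum _ _ _ fun i _ => IsHomogeneous.sum _ _ _ fun j _ => ?_
  split_ifs
  · have h := ((isHomogeneous_C (Fin N) (a i j)).mul (isHomogeneous_X A i)).mul (isHomogeneous_X A j)
    exact h
  · exact isHomogeneous_zero _ _ _

theorem nonsingForm_quadPoly {a : Fin N → Fin N → A} (ha : VanCyc.QuadNondeg a) :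
    NonsingForm (VanCyc.quadPoly a) := by
  intro i
  refine ⟨1, ?_⟩
  rw [pow_one, X_eq_sum ha i]
  exact Ideal.sum_mem _ fun j _ => Ideal.mul_mem_left _ _ (pderiv_mem_jacI _ j)

/-- the affine equation `Q - b` -/
noncomputable abbrev eqn (b : A) : MvPolynomial (Fin N) A := VanCyc.quadPoly a - C b

theorem pderiv_eqn (b : A) (j : Fin N) : pderiv j (eqn a b) = pderiv j (VanCyc.quadPoly a) := by
  rw [map_sub, pderiv_C, sub_zero]

theorem totalDegree_eqn (b : A) : (eqn a b).totalDegree ≤ 2 := by
  refine (totalDegree_sub_C_le _ _).trans ?_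
  exact (isHomogeneous_quadPoly a).totalDegree_le

theorem homogeneousComponent_eqn (b : A) (e : ℕ) : homogeneousComponent e (eqn a b) =
    (if e = 2 then VanCyc.quadPoly a else 0) - (if e = 0 then C b else 0) := by
  rw [map_sub, homogeneousComponent_of_mem (isHomogeneous_quadPoly a),
    homogeneousComponent_of_mem (isHomogeneous_C (Fin N) b)]

theorem homogeneousComponent_two_eqn (b : A) :
    homogeneousComponent 2 (eqn a b) = VanCyc.quadPoly a := by
  rw [homogeneousComponent_eqn]
  simp

theorem homog_eqn (b : A) : homog 2 (eqn a b) =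
    rename Fin.castSucc (VanCyc.quadPoly a) - C b * X (Fin.last N) ^ 2 := by
  rw [homog]
  simp only [homogeneousComponent_eqn, Finset.sum_range_succ, Finset.sum_range_zero]
  simp
  ring

end Groth.Agent.Lefpen.H713.QuadPD
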