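import Groth.Agent.Lefpen.H713.HypIso
import Groth.Agent.Lefpen.H713.QuadPD
import Groth.Agent.Vancyc.H694.StdT

/-!
# The projective quadric `Q(x) = b z²` over a ring

* `quad a b`: the projective closure of `Spec (VanCyc.quadRing A a b)`, `quadStr a b` its structure morphism
  (proper), `quadAff a b` the affine chart;
* `smooth_quad`: smooth if `Q` is non-degenerate and `b` is a unit;
* `exists_of_notMem_nsOpen`: in general it is smooth away from the points `x = 0 = b` of the affine chart;
* `exists_iso_sqrt`: `Q = s²b z²` is isomorphic to `Q = b z²`;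
* `exists_iso_std`: for the split form `∑ x_i x_{m+i} = c b z²` is isomorphic to `∑ x_i x_{m+i} = b z²`.
-/

set_option autoImplicit false

open CategoryTheory AlgebraicGeometry MvPolynomial
open Groth.Agent.Lefpen.H713.HypProj Groth.Agent.Lefpen.H713.HypIso Groth.Agent.Lefpen.H713.QuadPD
open Groth.Agent.Vancyc.H517.HypJac Groth.Agent.Vancyc.H517.Homog Groth.Agent.Vancyc.H694.StdT

universe u

namespace Groth.Agent.Lefpen.H713.QuadGeo

variable {A : Type u} [CommRing A] {N : ℕ} (a : Fin N → Fin N → A) (b : A)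

/-- the equation of the projective quadric -/
noncomputable abbrev quadForm : ↥(CohB1.polyGrading N A 2) := hform 2 (eqn a b)

/-- the projective quadric `Q(x) = b z²` -/
noncomputable abbrev quad : Scheme.{u} := Hyp (quadForm a b)

/-- its structure morphism -/
noncomputable abbrev quadStr : quad a b ⟶ Spec (CommRingCat.of A) := toSpec (quadForm a b)

/-- the affine chart `z = 1` -/
noncomputable def quadAff : Spec (CommRingCat.of (VanCyc.quadRing A a b)) ⟶ quad a b :=
  aff (totalDegree_eqn a b)

instance : IsOpenImmersion (quadAff a b) := isOpenImmersion_aff _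

theorem quadAff_str : quadAff a b ≫ quadStr a b =
    Spec.map (CommRingCat.ofHom (algebraMap A (VanCyc.quadRing A a b))) :=
  aff_toSpec _

theorem quadForm_val : (quadForm a b).1 =
    rename Fin.castSucc (VanCyc.quadPoly a) - C b * X (Fin.last N) ^ 2 := homog_eqn a b

section Smooth

variable {n : ℕ} {a : Fin (n + 1) → Fin (n + 1) → A}

theorem exists_of_notMem_nsOpen' (ha : VanCyc.QuadNondeg a) (x : quad a b)
    (hx : x ∉ nsOpen (quadForm a b)) :
    ∃ y : Spec (CommRingCat.of (VanCyc.quadRing A a b)), quadAff a b y = x ∧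
      (∀ j, Ideal.Quotient.mk (Ideal.span {eqn a b}) (X j) ∈ y.asIdeal) ∧
      Ideal.Quotient.mk (Ideal.span {eqn a b}) (C b) ∈ y.asIdeal := by
  obtain ⟨y, hy, hj⟩ := exists_of_notMem_nsOpen (totalDegree_eqn a b)
    (by rw [homogeneousComponent_two_eqn]; exact nonsingForm_quadPoly ha) x hx
  have h1 : ∀ j, Ideal.Quotient.mk (Ideal.span {eqn a b}) (X j) ∈ y.asIdeal := by
    intro j
    rw [X_eq_sum ha j, map_sum]
    refine Ideal.sum_mem _ fun l _ => ?_
    rw [map_mul]
    refine Ideal.mul_mem_left _ _ ?_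
    rw [← pderiv_eqn a b]
    exact hj l
  refine ⟨y, hy, h1, ?_⟩
  have h2 : (Ideal.Quotient.mk (Ideal.span {eqn a b}) (C b)) =
      Ideal.Quotient.mk (Ideal.span {eqn a b}) (VanCyc.quadPoly a) := by
    rw [Ideal.Quotient.eq, ← neg_mem_iff, neg_sub]
    exact Ideal.mem_span_singleton_self _
  have h3 : VanCyc.quadPoly a ∈ Ideal.span (Set.range (X : Fin (n + 1) → MvPolynomial (Fin (n + 1)) A)) := by
    unfold VanCyc.quadPoly
    refine Ideal.sum_mem _ fun i _ => Ideal.sum_mem _ fun j _ => ?_
    split_ifs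
    · exact Ideal.mul_mem_left _ _ (Ideal.subset_span ⟨j, rfl⟩)
    · exact zero_mem _
  have h4 : Ideal.span (Set.range (X : Fin (n + 1) → MvPolynomial (Fin (n + 1)) A)) ≤
      y.asIdeal.comap (Ideal.Quotient.mk (Ideal.span {eqn a b})) := by
    rw [Ideal.span_le]
    rintro _ ⟨j, rfl⟩
    exact h1 j
  rw [h2]
  exact h4 h3

/-- if `b` is a unit the quadric has no critical points -/
theorem nsOpen_eq_top (ha : VanCyc.QuadNondeg a) (hb : IsUnit b) : nsOpen (quadForm a b) = ⊤ := by
  rw [eq_top_iff]
  intro x _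
  by_contra hx
  obtain ⟨y, -, -, h⟩ := exists_of_notMem_nsOpen' b ha x hx
  have h1 : IsUnit (Ideal.Quotient.mk (Ideal.span {eqn a b}) (C b)) :=
    (hb.map C).map (Ideal.Quotient.mk (Ideal.span {eqn a b}))
  exact y.2.ne_top (Ideal.eq_top_of_isUnit_mem _ h h1)

theorem smooth_quad (ha : VanCyc.QuadNondeg a) (hb : IsUnit b) :
    SmoothOfRelativeDimension n (quadStr a b) := by
  have h1 := smooth_nsOpen (quadForm a b)
  rw [nsOpen_eq_top b ha hb] at h1
  have h2 : toSpec (quadForm a b) = (Scheme.topIso (quad a b)).inv ≫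
      (⊤ : (quad a b).Opens).ι ≫ toSpec (quadForm a b) := by
    rw [← Scheme.topIso_hom, Iso.inv_hom_id_assoc]
  change SmoothOfRelativeDimension n (toSpec (quadForm a b))
  rw [h2]
  exact IsZariskiLocalAtSource.comp (P := @SmoothOfRelativeDimension n) h1 _

end Smooth

section Iso

/-- scaling of the last coordinate -/
def uLast (s : Aˣ) : Fin (N + 1) → Aˣ := fun i => if i = Fin.last N then s else 1

theorem scaleHom_rename (u : Fin (N + 1) → Aˣ) (hu : ∀ j : Fin N, u (Fin.castSucc j) = 1)
    (p : MvPolynomial (Fin N) A) :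
    scaleHom u (rename Fin.castSucc p) = rename Fin.castSucc p := by
  induction p using MvPolynomial.induction_on with
  | C x => rw [rename_C, scaleHom_C]
  | add p q hp hq => rw [map_add, map_add, hp, hq]
  | mul_X p j hp =>
    rw [map_mul, map_mul, hp, rename_X, scaleHom_X, hu, Units.val_one, C_1, one_mul]

theorem exists_iso_sqrt (s : Aˣ) : ∃ e : quad a ((s : A) ^ 2 * b) ≅ quad a b,
    e.hom ≫ quadStr a b = quadStr a ((s : A) ^ 2 * b) := by
  refine exists_iso_scale (quadForm a b) (quadForm a ((s : A) ^ 2 * b)) (uLast s) 1 ?_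
  rw [quadForm_val, quadForm_val, map_sub, map_mul, map_pow, scaleHom_C, scaleHom_X,
    scaleHom_rename _ (fun j => if_neg (Fin.castSucc_lt_last j).ne), Units.val_one, C_1, one_mul]
  rw [uLast, if_pos rfl, mul_pow, C_mul, C_pow]
  ring

/-- scaling for the split form -/
def uStd {m : ℕ} (c : Aˣ) : Fin (2 * m + 1) → Aˣ :=
  fun i => if (i : ℕ) < m ∨ i = Fin.last (2 * m) then c else 1

theorem exists_iso_std {m : ℕ} (c : Aˣ) : ∃ e : quad (stdT A m) ((c : A) * b) ≅ quad (stdT A m) b,
    e.hom ≫ quadStr (stdT A m) b = quadStr (stdT A m) ((c : A) * b) := by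
  refine exists_iso_scale (quadForm (stdT A m) b) (quadForm (stdT A m) ((c : A) * b)) (uStd c) c ?_
  rw [quadForm_val, quadForm_val, map_sub, map_mul, map_pow, scaleHom_C, scaleHom_X, quadPoly_stdT,
    map_sum, map_sum]
  have h1 : ∀ i : Fin m, scaleHom (uStd c) (rename Fin.castSucc (X (lo m i) * X (hi m i) :
      MvPolynomial (Fin (2 * m)) A)) = C (c : A) * rename Fin.castSucc (X (lo m i) * X (hi m i)) := by
    intro i
    have hlo : uStd c (Fin.castSucc (lo m i)) = c := if_pos (Or.inl i.2)
    have hhi : uStd c (Fin.castSucc (hi m i)) = 1 := by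
      refine if_neg ?_
      rintro (h | h)
      · simp only [hi, Fin.val_castSucc] at h
        omega
      · exact (Fin.castSucc_lt_last (hi m i)).ne h
    rw [map_mul, map_mul, rename_X, rename_X, scaleHom_X, scaleHom_X, hlo, hhi, Units.val_one, C_1,
      one_mul, mul_assoc]
  simp only [h1]
  have h2 : uStd (m := m) c (Fin.last (2 * m)) = c := if_pos (Or.inr rfl)
  rw [h2, ← Finset.mul_sum, C_mul]
  ring

end Iso

end Groth.Agent.Lefpen.H713.QuadGeo
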