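import Groth.Prelude.Def_LefMon
import Groth.Agent.Sga5.ProjSmooth

/-!
# Points of the projective line with values in a ring

* `ringPt k B b : Spec B ⟶ P^1_k`, the point `t = b` in the chart `T_0 ≠ 0`, `t = T_1/T_0`;
* `fieldPt_eq : LefMon.fieldPt k K c = ringPt k K c`;
* `exists_ringPt`: a morphism to `P^1` from the spectrum of a local ring with closed point in the chart.
-/

set_option autoImplicit false

open CategoryTheory AlgebraicGeometry MvPolynomial
open Groth.Agent.Sga5.ProjChart Groth.Agent.Sga5.ProjSmooth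

universe u

namespace Groth.Agent.Lefpen.H713.RingPt

variable (k : Type u) [Field k]

section Ring

variable (B : Type u) [CommRing B] [Algebra k B]

/-- evaluation of polynomials in one variable -/
noncomputable def ev (b : B) : MvPolynomial (Fin 1) k →+* B :=
  (MvPolynomial.aeval (fun _ => b) : MvPolynomial (Fin 1) k →ₐ[k] B).toRingHom

variable {B}

@[simp] lemma ev_C (b : B) (a : k) : ev k B b (C a) = algebraMap k B a := by
  change MvPolynomial.aeval _ (C a) = _
  rw [MvPolynomial.aeval_C]

@[simp] lemma ev_X (b : B) (j : Fin 1) : ev k B b (X j) = b := by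
  change MvPolynomial.aeval _ (X j) = _
  rw [MvPolynomial.aeval_X]

lemma ext_poly {A : Type*} [CommSemiring A] {f g : MvPolynomial (Fin 1) k →+* A}
    (h1 : ∀ a : k, f (C a) = g (C a)) (h2 : f (X 0) = g (X 0)) : f = g := by
  apply MvPolynomial.ringHom_ext h1
  intro j
  rw [Fin.fin_one_eq_zero j]
  exact h2

variable (B)

/-- the `B`-point `t = b` of the projective line -/
noncomputable def ringPt (b : B) : Spec (CommRingCat.of B) ⟶ CohB1.ProjSpace 1 k :=
  Spec.map (CommRingCat.ofHom (ev k B b)) ≫ chart 1 k 0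

variable {B}

/-- functoriality -/
theorem map_ringPt {B' : Type u} [CommRing B'] [Algebra k B'] (φ : B →+* B')
    (hφ : φ.comp (algebraMap k B) = algebraMap k B') (b : B) :
    Spec.map (CommRingCat.ofHom φ) ≫ ringPt k B b = ringPt k B' (φ b) := by
  rw [ringPt, ringPt, ← Category.assoc, ← Spec.map_comp]
  congr 2
  apply CommRingCat.hom_ext
  apply ext_poly
  · intro a
    change φ (ev k B b (C a)) = ev k B' (φ b) (C a)
    rw [ev_C, ev_C]
    exact congrArg (fun f => f a) hφ
  · change φ (ev k B b (X 0)) = ev k B' (φ b) (X 0)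
    rw [ev_X, ev_X]

theorem ringPt_toSpec (b : B) : ringPt k B b ≫ CohB1.ProjSpace.toSpec 1 k =
    Spec.map (CommRingCat.ofHom (algebraMap k B)) := by
  rw [ringPt, Category.assoc, chart_toSpec, ← Spec.map_comp]
  congr 1
  apply CommRingCat.hom_ext
  apply RingHom.ext
  intro a
  exact ev_C k b a

end Ring

section FieldPt

variable (K : Type u) [Field K] [Algebra k K] (c : K)

theorem chartToField_chartEquiv :
    (LefMon.chartToField k K c).comp (chartEquiv 1 k 0 : MvPolynomial (Fin 1) k →+* _) =
      ev k K c := by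
  have hl : ∀ z : Chart 1 k 0, LefMon.chartToField k K c z =
      IsLocalization.Away.lift (S := Localization.Away (X 0 : MvPolynomial (Fin (1 + 1)) k)) (X 0)
        (g := (MvPolynomial.aeval (Fin.cons 1 (fun _ => c) : Fin (1 + 1) → K)).toRingHom)
        (by simp) z.val := fun _ => rfl
  apply ext_poly
  · intro a
    rw [ev_C, RingHom.comp_apply]
    change LefMon.chartToField k K c (chartEquiv 1 k 0 (C a)) = _
    rw [chartEquiv_C, hl, val_chartC, IsLocalization.Away.lift_eq]
    change MvPolynomial.aeval (Fin.cons 1 (fun _ => c) : Fin (1 + 1) → K)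
      (C a : MvPolynomial (Fin (1 + 1)) k) = _
    rw [MvPolynomial.aeval_C]
  · rw [ev_X, RingHom.comp_apply]
    change LefMon.chartToField k K c (chartEquiv 1 k 0 (X 0)) = _
    rw [chartEquiv_X, hl]
    have h := congrArg (IsLocalization.Away.lift
      (S := Localization.Away (X 0 : MvPolynomial (Fin (1 + 1)) k))
      (X 0 : MvPolynomial (Fin (1 + 1)) k) (g := (MvPolynomial.aeval (Fin.cons 1 (fun _ => c) : Fin (1 + 1) → K)).toRingHom)
      (by simp)) (val_coord_mul 1 k 0 ((0 : Fin 2).succAbove 0))
    rw [map_mul, IsLocalization.Away.lift_eq, IsLocalization.Away.lift_eq] at h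
    have h0 : (MvPolynomial.aeval (Fin.cons 1 (fun _ => c) : Fin (1 + 1) → K)).toRingHom
        (X 0 : MvPolynomial (Fin (1 + 1)) k) = 1 := by
      change MvPolynomial.aeval (Fin.cons 1 (fun _ => c) : Fin (1 + 1) → K)
        (X 0 : MvPolynomial (Fin (1 + 1)) k) = _
      rw [MvPolynomial.aeval_X]
      rfl
    have h1 : (MvPolynomial.aeval (Fin.cons 1 (fun _ => c) : Fin (1 + 1) → K)).toRingHom
        (X ((0 : Fin 2).succAbove 0) : MvPolynomial (Fin (1 + 1)) k) = c := by
      change MvPolynomial.aeval (Fin.cons 1 (fun _ => c) : Fin (1 + 1) → K)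
        (X ((0 : Fin 2).succAbove 0) : MvPolynomial (Fin (1 + 1)) k) = _
      rw [MvPolynomial.aeval_X]
      rfl
    exact (mul_one _).symm.trans ((congrArg _ h0.symm).trans (h.trans h1))

theorem fieldPt_eq : LefMon.fieldPt k K c = ringPt k K c := by
  rw [LefMon.fieldPt, ringPt, chart, ← Category.assoc, ← Spec.map_comp]
  congr 2
  apply CommRingCat.hom_ext
  apply RingHom.ext
  intro z
  obtain ⟨p, rfl⟩ := (chartEquiv 1 k 0).surjective z
  change LefMon.chartToField k K c (chartEquiv 1 k 0 p) =
    ev k K c ((chartEquiv 1 k 0).symm (chartEquiv 1 k 0 p))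
  rw [RingEquiv.symm_apply_apply, ← chartToField_chartEquiv]
  rfl

end FieldPt

/-- a morphism from the spectrum of a local ring to the line with closed point in the chart is
`ringPt` for a unique `k`-algebra structure -/
theorem exists_ringPt {B : Type u} [CommRing B] [IsLocalRing B]
    (f : Spec (CommRingCat.of B) ⟶ CohB1.ProjSpace 1 k)
    (hf : f (IsLocalRing.closedPoint B) ∈ (chart 1 k 0).opensRange) :
    ∃ (_ : Algebra k B) (b : B), f = ringPt k B b := by
  have hr : Set.range f ⊆ Set.range (chart 1 k 0) := by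
    rintro _ ⟨x, rfl⟩
    have h1 : x ⤳ IsLocalRing.closedPoint B := IsLocalRing.specializes_closedPoint x
    exact (h1.map f.continuous).mem_open (chart 1 k 0).opensRange.isOpen hf
  let φ : MvPolynomial (Fin 1) k →+* B :=
    (Spec.preimage (IsOpenImmersion.lift (chart 1 k 0) f hr)).hom
  let al : Algebra k B := (φ.comp C).toAlgebra
  refine ⟨al, φ (X 0), ?_⟩
  have h2 : ev k B (φ (X 0)) = φ := by
    apply ext_poly
    · intro a
      rw [ev_C]
      rfl
    · rw [ev_X]
  rw [ringPt, h2]
  have h3 : Spec.map (CommRingCat.ofHom φ) = IsOpenImmersion.lift (chart 1 k 0) f hr :=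
    Spec.map_preimage _
  rw [h3, IsOpenImmersion.lift_fac]

end Groth.Agent.Lefpen.H713.RingPt
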