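import Groth.Agent.CurvesA.EtFieldTr
import Groth.Agent.CurvesA.EtFieldH
import Groth.Agent.EtpbcB.NKillEt

/-!
# Vanishing of the cohomology of a field prime to the degrees of its Galois extensions
-/

set_option autoImplicit false
universe u
open CategoryTheory Category Limits Opposite AlgebraicGeometry CategoryTheory.Abelian
open Groth.Agent.CurvesA.EtFieldObj Groth.Agent.CurvesA.EtFieldDesc Groth.Agent.CurvesA.EtFieldTr
open Groth.Agent.CurvesA

namespace Groth.Agent.Lefpen.H713.TCd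

variable {K : Type u} [Field K]

theorem nsmul_eq_zero {F : EtCoh.Ab (Spec (CommRingCat.of K))} {n : ℕ} (hF : EtCoh.KilledBy n F)
    {A : EtCoh.Ab (Spec (CommRingCat.of K))} {q : ℕ} (x : Ext A F q) : n • x = 0 := by
  have h1 : n • 𝟙 F = 0 := (EtpbcB.NKillEt.killedBy_iff n F).1 hF
  have h2 : ∀ m : ℕ, m • x = x.comp (Ext.mk₀ (m • 𝟙 F)) (add_zero q) := by
    intro m
    induction m with
    | zero => rw [zero_nsmul, zero_nsmul, Ext.mk₀_zero, Ext.comp_zero]
    | succ m ih =>
      rw [succ_nsmul, ih, succ_nsmul, Ext.mk₀_add, Ext.comp_add, Ext.comp_mk₀_id]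
  rw [h2, h1, Ext.mk₀_zero, Ext.comp_zero]

/-- If all finite Galois extensions of `K` have degree prime to `N`, the higher cohomology of sheaves
killed by `N` vanishes. -/
theorem subsingleton_H (N : ℕ) (hK : ∀ (M : Type u) [Field M] [Algebra K M] [FiniteDimensional K M]
    [IsGalois K M], (Module.finrank K M).Coprime N) (F : EtCoh.Ab (Spec (CommRingCat.of K)))
    (hF : EtCoh.KilledBy N F) (q : ℕ) (hq : 0 < q) :
    Subsingleton (EtCoh.H (Spec (CommRingCat.of K)) F q) := by
  obtain ⟨r, rfl⟩ : ∃ r, q = r + 1 := ⟨q - 1, by omega⟩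
  apply EtFieldH.subsingleton_H
  intro x
  obtain ⟨S, hS, hx⟩ := SiteZU.exists_sieve_comp_eq_zero x
  obtain ⟨M, _, _, _, _, f, hf⟩ := exists_galois_mem S hS
  obtain ⟨φ, rfl⟩ := exists_etMap_eq f
  have hφ' : φ = Algebra.ofId K M := Subsingleton.elim _ _
  have hφ : ExtStep.res (Zm (can K K M)) F (r + 1) x = 0 := by
    have := hx _ _ hf
    rw [hφ'] at this
    exact this
  obtain ⟨t, ht⟩ := exists_transfer (K := K) (L := K) (L' := M) (M := M)
  have h1 := ExtStep.nsmul_eq_zero_of_transfer _ t _ ht F _ x hφ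
  have h2 : N • x = 0 := nsmul_eq_zero hF x
  have h4 : addOrderOf x ∣ Nat.gcd (Module.finrank K M) N :=
    Nat.dvd_gcd (addOrderOf_dvd_of_nsmul_eq_zero h1) (addOrderOf_dvd_of_nsmul_eq_zero h2)
  have h5 : Nat.gcd (Module.finrank K M) N = 1 := (hK M).gcd_eq_one
  exact AddMonoid.addOrderOf_eq_one_iff.1 (Nat.dvd_one.1 (h4.trans (dvd_of_eq h5)))

end Groth.Agent.Lefpen.H713.TCd
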