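import Groth.Agent.Vancyc.H686.VanSH
import Groth.Agent.EtpbcA.LAUnit
import Groth.Agent.EtpbcB.HRel
import Groth.Agent.S0655
import Groth.Agent.S0073
import Groth.Agent.Sga4A.IntegralSection
import Groth.Agent.Etcore.FieldDesc621
import Groth.Agent.Etrest.HpullConst

/-!
# The cokernel of the unit along an integral surjective morphism

`g : T' ⟶ T` integral and surjective, `F` on `T`, `Qg g F = coker (F ⟶ g_* g^* F)`.

* `bijective_Hpull_of_allZero`: if `H^*(Z, z^* Qg) = 0` for `z : Z ⟶ T`, then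
  `H^q(Z, z^* F) → H^q(Z ×_T T', ·)` is bijective for all `q`.
* `allZero_Qg`: if `F` and `g^* F` have no higher cohomology and the same global sections, then
  `H^*(T, Qg) = 0`.
-/

set_option autoImplicit false
universe u
open CategoryTheory CategoryTheory.Limits CategoryTheory.Abelian AlgebraicGeometry Opposite

namespace Groth.Agent.Lefpen.H713.TField

open Groth.Agent.Vancyc.H686.VanMV Groth.Agent.EtpbcB.NKillEt Groth.Agent.EtpbcA.CdLeray

/-- The cokernel of `F ⟶ g_* g^* F`. -/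
noncomputable abbrev Qg {T' T : Scheme.{u}} (g : T' ⟶ T) (F : EtCoh.Ab T) : EtCoh.Ab T :=
  cokernel ((EtCoh.pullPushAdj g).unit.app F)

theorem killedBy_Qg {T' T : Scheme.{u}} (g : T' ⟶ T) (F : EtCoh.Ab T) {N : ℕ}
    (hF : EtCoh.KilledBy N F) : EtCoh.KilledBy N (Qg g F) := by
  have hG : EtCoh.KilledBy N ((EtCoh.push g).obj ((EtCoh.pull g).obj F)) :=
    killedBy_push g (killedBy_pull g hF)
  rw [killedBy_iff] at hG ⊢
  exact EtpbcB.NKill.killed_of_epi (cokernel.π _) hG

section

variable {T' T Z Z' : Scheme.{u}} {g : T' ⟶ T} {z : Z ⟶ T} {h : Z' ⟶ Z} {e : Z' ⟶ T'}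

/-- From vanishing to bijectivity. -/
theorem bijective_Hpull_of_allZero [IsIntegralHom g] [Surjective g] (sq : IsPullback e h g z)
    [PreservesFiniteLimits (EtCoh.pull h)] (F : EtCoh.Ab T)
    (h0 : AllZero ((EtCoh.pull z).obj (Qg g F))) (q : ℕ) :
    Function.Bijective (EtCore.Hpull h ((EtCoh.pull z).obj F) q) := by
  have hi : IsIntegralHom h := MorphismProperty.of_isPullback sq inferInstance
  have hs : Surjective h := MorphismProperty.of_isPullback sq inferInstance
  have bc0 : IsIso (EtCoh.baseChange0 g z h e sq.w ((EtCoh.pull g).obj F)) :=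
    Groth.Agent.S0655.result g z h e sq _
  have hunit := EtpbcA.LA.pull_unit_baseChange0 sq.w F
  have hunit' : (EtCoh.pullPushAdj h).unit.app ((EtCoh.pull z).obj F) =
      (EtCoh.pull z).map ((EtCoh.pullPushAdj g).unit.app F) ≫
        EtCoh.baseChange0 g z h e sq.w ((EtCoh.pull g).obj F) ≫
        inv ((EtCoh.push h).map ((EtpbcA.LA.kap sq.w).hom.app F)) := by
    rw [← Category.assoc, IsIso.eq_comp_inv]
    exact hunit.symm
  refine Vancyc.H686.VanSH.bijective_Hpull_of_unit h _ ?_ ?_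
    (fun q hq => Sga4A.EtSplit.isZero_Rpush h _ q hq) q
  · have := Etcore.FieldDesc621.mono_unit_of_surjective h ((EtCoh.pull z).obj F)
    exact allZero_of_isZero (isZero_kernel_of_mono _)
  · have e1 : cokernel ((EtCoh.pullPushAdj h).unit.app ((EtCoh.pull z).obj F)) ≅
        cokernel ((EtCoh.pull z).map ((EtCoh.pullPushAdj g).unit.app F)) :=
      cokernelIsoOfEq hunit' ≪≫ cokernelCompIsIso _ _
    exact h0.of_iso ((PreservesCokernel.iso (EtCoh.pull z) _) ≪≫ e1.symm)

end

section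

variable {T' T : Scheme.{u}} (g : T' ⟶ T) [IsIntegralHom g] [Surjective g]
  [PreservesFiniteLimits (EtCoh.pull g)] (F : EtCoh.Ab T)

theorem allZero_Qg (h1 : ∀ q, 0 < q → Subsingleton (EtCoh.H T F q))
    (h2 : ∀ q, 0 < q → Subsingleton (EtCoh.H T' ((EtCoh.pull g).obj F) q))
    (h3 : Function.Surjective (EtCore.Hpull g F 0)) : AllZero (Qg g F) := by
  have hm := Etcore.FieldDesc621.mono_unit_of_surjective g F
  let S : ShortComplex (EtCoh.Ab T) := ShortComplex.mk ((EtCoh.pullPushAdj g).unit.app F)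
    (cokernel.π _) (cokernel.condition _)
  have hS : S.ShortExact := { exact := ShortComplex.exact_cokernel _ }
  have h4 : ∀ m, Subsingleton (EtCoh.H T ((EtCoh.push g).obj ((EtCoh.pull g).obj F)) (m + 1)) :=
    fun m => EtpbcA.CdEtLeray.H_push_subsingleton_of_reverse g _ m (h2 (m + 1) (by omega))
      fun p q _ => EtpbcA.CdEtLeray.H_subsingleton_of_isZero
        (Sga4A.EtSplit.isZero_Rpush g _ (q + 1) (by omega)) p
  intro q
  rcases q with _ | q
  · refine subsingleton_of_forall_eq 0 fun x => ?_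
    obtain ⟨f, rfl⟩ := Ext.addEquiv₀.symm.surjective x
    obtain ⟨k, hk⟩ := exists_lift_of_ext_one hS (EtCoh.const T ℤ) (h1 1 one_pos) f
    obtain ⟨φ, hφ⟩ : ∃ φ : EtCoh.const T ℤ ⟶ F, φ ≫ (EtCoh.pullPushAdj g).unit.app F = k := by
      obtain ⟨y, hy⟩ := h3 (Ext.mk₀ ((EtCore.pullConst g ℤ).inv ≫
        ((EtCoh.pullPushAdj g).homEquiv _ _).symm k))
      obtain ⟨φ, rfl⟩ := (Ext.mk₀_bijective _ _).2 y
      refine ⟨φ, ?_⟩
      have h5 : EtCore.Hpull g F 0 (Ext.mk₀ φ) =
          Ext.mk₀ ((EtCore.pullConst g ℤ).inv ≫ (EtCoh.pull g).map φ) := by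
        change (Ext.mk₀ (EtCore.pullConst g ℤ).inv).comp
          (Ext.mapExactFunctor (EtCoh.pull g) (Ext.mk₀ φ)) (zero_add 0) = _
        rw [Ext.mapExactFunctor_mk₀, Ext.mk₀_comp_mk₀]
      rw [h5] at hy
      have h6 := (Ext.mk₀_bijective _ _).1 hy
      have h7 : (EtCoh.pull g).map φ = ((EtCoh.pullPushAdj g).homEquiv _ _).symm k := by
        rwa [cancel_epi] at h6
      have h8 : (EtCoh.pullPushAdj g).homEquiv _ _ ((EtCoh.pull g).map φ) = k := by
        rw [h7, Equiv.apply_symm_apply]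
      rw [← h8, Adjunction.homEquiv_unit]
      exact ((EtCoh.pullPushAdj g).unit.naturality φ)
    have h9 : f = 0 := by
      rw [← hk, ← hφ, Category.assoc]
      change φ ≫ (EtCoh.pullPushAdj g).unit.app F ≫ cokernel.π _ = 0
      rw [cokernel.condition, comp_zero]
    rw [h9, map_zero]
  · exact ext_right hS (EtCoh.const T ℤ) (q + 1) (h4 q) (h1 (q + 2) (by omega))

end

end Groth.Agent.Lefpen.H713.TField
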