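import Groth.Agent.Lefpen.H713.TLoc
import Groth.Agent.Vancyc.H679.PropLES

/-!
# Local to global: proper base change and sheaves with isolated higher direct images

`i : Y₀ ⟶ Y` satisfies proper base change, `j : Z ⟶ Y`, `F` a sheaf on `Z` killed by `N > 0`, and the
stalks of `R^q j_* F` vanish at the points of `Y₀` outside a finite set `Sig` of closed points with
separably closed residue fields.  Then `H^*(Z, F) = 0` iff the stalks vanish at the points of `Sig`.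
-/

set_option autoImplicit false
set_option linter.unusedSectionVars false
universe u
open CategoryTheory CategoryTheory.Limits AlgebraicGeometry Opposite

namespace Groth.Agent.Lefpen.H713.TGlob

open Groth.Agent.Vancyc.H686.VanMV Groth.Agent.Etbase Groth.Agent.Vancyc.H679.PropLES TLoc

/-- `Tl` at all geometric points over `y`. -/
def TlAt {Z Y : Scheme.{u}} (j : Z ⟶ Y) (F : EtCoh.Ab Z) (y : Y) : Prop :=
  ∀ (Ω : Type u) [Field Ω] [IsSepClosed Ω] (ξ : Spec (CommRingCat.of Ω) ⟶ Y), ξ default = y → Tl j F ξ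

theorem TlAt.of_exists {Z Y : Scheme.{u}} {j : Z ⟶ Y} {F : EtCoh.Ab Z} {y : Y} {Ω : Type u} [Field Ω]
    [IsSepClosed Ω] (ξ : Spec (CommRingCat.of Ω) ⟶ Y) (hξ : ξ default = y) (h : Tl j F ξ) :
    TlAt j F y := fun _ _ _ _ hξ' => h.of_point (hξ.trans hξ'.symm)

section

variable {Y₀ Y Z : Scheme.{u}} (i : Y₀ ⟶ Y) [PreservesFiniteLimits (EtCoh.pull i)] (hi : PBCi i)
  (Sig : Finset Y₀) (hc : ∀ x ∈ Sig, IsClosed ({x} : Set Y₀))
  (hs : ∀ x ∈ Sig, IsSepClosed (Y₀.residueField x)) (j : Z ⟶ Y) {F : EtCoh.Ab Z} {N : ℕ} (hN : 0 < N)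
  (hF : EtCoh.KilledBy N F)

theorem isZero_stalk_pull {x : Y₀} (h : TlAt j F (i x)) {Ω : Type u} [Field Ω] [IsSepClosed Ω]
    (ξ : Spec (CommRingCat.of Ω) ⟶ Y₀) (hξ : ξ default = x) (q : ℕ) :
    IsZero ((EtCoh.stalk ξ).obj ((EtCoh.pull i).obj ((EtCoh.Rpush j q).obj F))) :=
  (h Ω (ξ ≫ i) (by rw [Scheme.Hom.comp_apply, hξ]) q).of_iso
    ((StalkPull.stalkPullIso i ξ).app _).symm

include hi hc hs hN hF

theorem subsingleton_H_Rpush (h : ∀ x : Y₀, x ∉ Sig → TlAt j F (i x)) (q p : ℕ) (hp : 0 < p) :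
    Subsingleton (EtCoh.H Y ((EtCoh.Rpush j q).obj F) p) := by
  refine subsingleton_H i hi Sig hc hs _ (isTorsion_killed hN (killed_Rpush j hF q)) (fun x hx => ?_)
    p hp
  obtain ⟨Ω, _, _, ξ, hξ⟩ := Etcore.Stalks.exists_geom x
  exact ⟨Ω, inferInstance, inferInstance, ξ, hξ, isZero_stalk_pull i j (h x hx) ξ hξ q⟩

/-- Global vanishing implies local vanishing. -/
theorem tlAt_of_allZero (h : ∀ x : Y₀, x ∉ Sig → TlAt j F (i x)) (h0 : AllZero F) (x : Y₀) :
    TlAt j F (i x) := by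
  by_cases hx : x ∈ Sig
  swap
  · exact h x hx
  have hgeo : ∀ x : Y₀, ∃ (Ω : Type u) (_ : Field Ω) (_ : IsSepClosed Ω)
      (ξ : Spec (CommRingCat.of Ω) ⟶ Y₀), ξ default = x := fun x => Etcore.Stalks.exists_geom x
  choose Ω i1 i2 ξ hξ using hgeo
  refine TlAt.of_exists (ξ x ≫ i) (by rw [Scheme.Hom.comp_apply, hξ]) fun q => ?_
  have h1 : Subsingleton (EtCoh.H Y ((EtCoh.Rpush j q).obj F) 0) :=
    LerayZero.H0_Rpush j F q (h0 q) (fun q p hp => subsingleton_H_Rpush i hi Sig hc hs j hN hF h q p hp)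
  obtain ⟨e⟩ := nonempty_equiv i hi Sig hc hs _ (isTorsion_killed hN (killed_Rpush j hF q))
    (fun y hy => ⟨Ω y, inferInstance, inferInstance, ξ y, hξ y, isZero_stalk_pull i j (h y hy) (ξ y) (hξ y) q⟩)
    Ω ξ hξ
  have h2 : Subsingleton (∀ x : Sig, ((EtCoh.stalk (ξ x)).obj ((EtCoh.pull i).obj
      ((EtCoh.Rpush j q).obj F)) : Type (u + 1))) := e.symm.injective.subsingleton
  have h3 : Subsingleton ((EtCoh.stalk (ξ x)).obj ((EtCoh.pull i).obj
      ((EtCoh.Rpush j q).obj F)) : Type (u + 1)) := by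
    classical
    refine ⟨fun a b => ?_⟩
    have h4 : (Pi.single (⟨x, hx⟩ : Sig) a : ∀ x : Sig, ((EtCoh.stalk (ξ x)).obj ((EtCoh.pull i).obj
      ((EtCoh.Rpush j q).obj F)) : Type (u + 1))) = Pi.single (⟨x, hx⟩ : Sig) b := Subsingleton.elim _ _
    have h5 := congrFun h4 ⟨x, hx⟩
    rwa [Pi.single_eq_same, Pi.single_eq_same] at h5
  have h6 : IsZero ((EtCoh.stalk (ξ x)).obj ((EtCoh.pull i).obj ((EtCoh.Rpush j q).obj F))) :=
    @AddCommGrpCat.isZero_of_subsingleton _ h3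
  exact h6.of_iso ((StalkPull.stalkPullIso i (ξ x)).app _)

omit hc hs in
/-- Local vanishing implies global vanishing. -/
theorem allZero_of_tlAt (h : ∀ x : Y₀, TlAt j F (i x)) : AllZero F := by
  intro n
  refine LerayZero.H_of_Rpush j F (fun q p => ?_) n
  refine subsingleton_H_zero i hi _ (isTorsion_killed hN (killed_Rpush j hF q)) (fun x => ?_) p
  obtain ⟨Ω, _, _, ξ, hξ⟩ := Etcore.Stalks.exists_geom x
  exact ⟨Ω, inferInstance, inferInstance, ξ, hξ, isZero_stalk_pull i j (h x) ξ hξ q⟩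

end

end Groth.Agent.Lefpen.H713.TGlob
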