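import Groth.Agent.Lefpen.H713.LerayZero
import Groth.Agent.Vancyc.H686.VanSH
import Groth.Agent.EtpbcB.GeomPointIndep

/-!
# Local vanishing of higher direct images of a sheaf coming from the base

`f : Y ⟶ S`, `t : T ⟶ S`, `Q` an abelian sheaf on `T`, `Y_T = Y ×_S T`.

* `TP f t Q y`: the stalks at the geometric points over `y` of `R^q (Y_T ⟶ Y)_* (Q|Y_T)` vanish for all `q`.
* `tp_comp`: invariance under smooth morphisms `Y' ⟶ Y` (`SBC` = smooth base change).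
* `tp_smooth`: over a strictly henselian base, `H^*(T, Q) = 0` implies `TP` at the smooth points of the
  closed fibre.
-/

set_option autoImplicit false
universe u
open CategoryTheory CategoryTheory.Limits AlgebraicGeometry Opposite

namespace Groth.Agent.Lefpen.H713.TLoc

open Groth.Agent.Vancyc.H686.VanMV Groth.Agent.Etbase Groth.Agent.EtpbcB.NKillEt

/-- Smooth base change for sheaves killed by `N`. -/
def SBC (N : ℕ) : Prop := ∀ {X Y X' Y' : Scheme.{u}} (f : X ⟶ Y) (g : Y' ⟶ Y) (f' : X' ⟶ Y')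
    (g' : X' ⟶ X) (_ : IsPullback g' f' f g) (_ : Smooth g) (_ : QuasiCompact f)
    (_ : QuasiSeparated f) (_ : IsUnit (N : Γ(Y, ⊤))) (F : EtCoh.Ab X) (_ : EtCoh.KilledBy N F)
    (q : ℕ), Nonempty ((EtCoh.pull g).obj ((EtCoh.Rpush f q).obj F) ≅
      (EtCoh.Rpush f' q).obj ((EtCoh.pull g').obj F))

section Tl

variable {Z Y : Scheme.{u}} (j : Z ⟶ Y) (F : EtCoh.Ab Z)

/-- Vanishing at a geometric point of all higher direct images. -/
def Tl {Ω : Type u} [Field Ω] [IsSepClosed Ω] (ξ : Spec (CommRingCat.of Ω) ⟶ Y) : Prop :=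
  ∀ q : ℕ, IsZero ((EtCoh.stalk ξ).obj ((EtCoh.Rpush j q).obj F))

variable {j F}

theorem Tl.of_iso {F' : EtCoh.Ab Z} (e : F ≅ F') {Ω : Type u} [Field Ω] [IsSepClosed Ω]
    {ξ : Spec (CommRingCat.of Ω) ⟶ Y} (h : Tl j F ξ) : Tl j F' ξ := fun q =>
  (h q).of_iso ((EtCoh.stalk ξ).mapIso ((EtCoh.Rpush j q).mapIso e.symm))

theorem Tl.of_point {Ω Ω' : Type u} [Field Ω] [IsSepClosed Ω] [Field Ω'] [IsSepClosed Ω']
    {ξ : Spec (CommRingCat.of Ω) ⟶ Y} {ξ' : Spec (CommRingCat.of Ω') ⟶ Y}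
    (hp : ξ default = ξ' default) (h : Tl j F ξ) : Tl j F ξ' := fun q => by
  obtain ⟨e⟩ := EtpbcB.GeomPointIndep.nonempty_stalkIso ξ ξ' hp
  exact (h q).of_iso (e.app _).symm

theorem tl_bc {Z' Y' : Scheme.{u}} {g : Y' ⟶ Y} {j' : Z' ⟶ Y'} {g' : Z' ⟶ Z}
    (H : ∀ q : ℕ, Nonempty ((EtCoh.pull g).obj ((EtCoh.Rpush j q).obj F) ≅
      (EtCoh.Rpush j' q).obj ((EtCoh.pull g').obj F)))
    {Ω : Type u} [Field Ω] [IsSepClosed Ω] (ζ : Spec (CommRingCat.of Ω) ⟶ Y') :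
    Tl j' ((EtCoh.pull g').obj F) ζ ↔ Tl j F (ζ ≫ g) := by
  refine forall_congr' fun q => ?_
  obtain ⟨i⟩ := H q
  let e : (EtCoh.stalk ζ).obj ((EtCoh.Rpush j' q).obj ((EtCoh.pull g').obj F)) ≅
      (EtCoh.stalk (ζ ≫ g)).obj ((EtCoh.Rpush j q).obj F) :=
    (EtCoh.stalk ζ).mapIso i.symm ≪≫ ((StalkPull.stalkPullIso g ζ).app _).symm
  exact ⟨fun h => h.of_iso e.symm, fun h => h.of_iso e⟩

end Tl

section TP

variable {S T Y : Scheme.{u}} (f : Y ⟶ S) (t : T ⟶ S) (Q : EtCoh.Ab T)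

/-- Local vanishing at a point. -/
def TP (y : Y) : Prop := ∀ (Ω : Type u) [Field Ω] [IsSepClosed Ω] (ξ : Spec (CommRingCat.of Ω) ⟶ Y),
  ξ default = y → Tl (pullback.fst f t) ((EtCoh.pull (pullback.snd f t)).obj Q) ξ

variable {f t Q}

theorem TP.of_exists {y : Y} {Ω : Type u} [Field Ω] [IsSepClosed Ω] (ξ : Spec (CommRingCat.of Ω) ⟶ Y)
    (hξ : ξ default = y) (h : Tl (pullback.fst f t) ((EtCoh.pull (pullback.snd f t)).obj Q) ξ) :
    TP f t Q y := fun _ _ _ _ hξ' => h.of_point (hξ.trans hξ'.symm)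

theorem isUnit_of_hom (f : Y ⟶ S) {N : ℕ} (hN : IsUnit (N : Γ(S, ⊤))) : IsUnit (N : Γ(Y, ⊤)) := by
  have h1 := hN.map f.appTop.hom
  rwa [map_natCast] at h1

/-- Invariance of `Tl` under smooth base change (and isomorphisms of the source). -/
theorem tl_iff {N : ℕ} (hB : SBC.{u} N) (hN : IsUnit (N : Γ(S, ⊤))) (hQ : EtCoh.KilledBy N Q)
    [QuasiCompact t] [QuasiSeparated t] {Y' Z' : Scheme.{u}} (g : Y' ⟶ Y) [Smooth g] {j' : Z' ⟶ Y'}
    {z' : Z' ⟶ T} (sq : IsPullback j' z' (g ≫ f) t)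
    {Ω : Type u} [Field Ω] [IsSepClosed Ω] (ζ : Spec (CommRingCat.of Ω) ⟶ Y') :
    Tl j' ((EtCoh.pull z').obj Q) ζ ↔
      Tl (pullback.fst f t) ((EtCoh.pull (pullback.snd f t)).obj Q) (ζ ≫ g) := by
  let g' : Z' ⟶ pullback f t := pullback.lift (j' ≫ g) z' (by rw [Category.assoc]; exact sq.w)
  have hg1 : g' ≫ pullback.fst f t = j' ≫ g := pullback.lift_fst _ _ _
  have hg2 : g' ≫ pullback.snd f t = z' := pullback.lift_snd _ _ _
  have sq1 : IsPullback j' g' g (pullback.fst f t) := by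
    refine IsPullback.of_bot (h₁₁ := j') (v₁₁ := g') (h₂₁ := pullback.fst f t) (v₁₂ := g) (v₂₂ := f)
      (v₂₁ := pullback.snd f t) (h₃₁ := t) ?_ hg1.symm (IsPullback.of_hasPullback f t).flip.flip
    rw [hg2]
    exact sq
  have h1 := tl_bc (j := pullback.fst f t) (F := (EtCoh.pull (pullback.snd f t)).obj Q) (g := g)
    (j' := j') (g' := g') (fun q => hB (pullback.fst f t) g j' g' sq1.flip.flip.flip inferInstance
      inferInstance inferInstance (isUnit_of_hom f hN) _ (killedBy_pull _ hQ) q) ζ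
  rw [← h1]
  have e : (EtCoh.pull g').obj ((EtCoh.pull (pullback.snd f t)).obj Q) ≅ (EtCoh.pull z').obj Q :=
    (EtCore.pullComp g' (pullback.snd f t)).symm.app Q ≪≫ (EtCore.pullCongr hg2).app Q
  exact ⟨fun h => h.of_iso e.symm, fun h => h.of_iso e⟩

/-- Invariance under smooth morphisms. -/
theorem tp_comp {N : ℕ} (hB : SBC.{u} N) (hN : IsUnit (N : Γ(S, ⊤))) (hQ : EtCoh.KilledBy N Q)
    [QuasiCompact t] [QuasiSeparated t] {Y' : Scheme.{u}} (g : Y' ⟶ Y) [Smooth g] (y : Y') :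
    TP (g ≫ f) t Q y ↔ TP f t Q (g y) := by
  have key : ∀ {Ω : Type u} [Field Ω] [IsSepClosed Ω] (ζ : Spec (CommRingCat.of Ω) ⟶ Y'), _ :=
    fun ζ => tl_iff hB hN hQ g (IsPullback.of_hasPullback (g ≫ f) t) ζ
  obtain ⟨Ω, _, _, ζ, hζ⟩ := Etcore.Stalks.exists_geom y
  constructor
  · intro h
    exact TP.of_exists (ζ ≫ g) (by rw [Scheme.Hom.comp_apply, hζ]) ((key ζ).1 (h Ω ζ hζ))
  · intro h
    exact TP.of_exists ζ hζ ((key ζ).2 (h Ω (ζ ≫ g) (by rw [Scheme.Hom.comp_apply, hζ])))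

end TP

section SH

variable (R : Type u) [CommRing R] [HenselianLocalRing R] [IsSepClosed (IsLocalRing.ResidueField R)]
  {T Y : Scheme.{u}} (t : T ⟶ Spec (CommRingCat.of R)) [QuasiCompact t] [QuasiSeparated t]
  (Q : EtCoh.Ab T) {N : ℕ}

/-- The base itself. -/
theorem tl_base (hQ0 : AllZero Q) {Ω : Type u} [Field Ω] [IsSepClosed Ω]
    (ξ : Spec (CommRingCat.of Ω) ⟶ Spec (CommRingCat.of R))
    (hξ : ξ default = IsLocalRing.closedPoint R) : Tl t Q ξ := by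
  have h1 : Tl t Q (StrictHensPoint.pt R) := fun q =>
    (Vancyc.H686.VanSH.allZero_iff _).1 (Vancyc.H686.VanSH.allZero_Rpush t Q hQ0 q)
  refine h1.of_point (Eq.trans ?_ hξ.symm)
  have h2 : (default : Spec (CommRingCat.of (IsLocalRing.ResidueField R))) =
      (IsLocalRing.closedPoint (IsLocalRing.ResidueField R) : PrimeSpectrum _) :=
    Subsingleton.elim (α := Spec (CommRingCat.of (IsLocalRing.ResidueField R))) _ _
  rw [h2]
  exact IsLocalRing.comap_closedPoint (IsLocalRing.residue R)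

variable {R t Q}

/-- Smooth points of the closed fibre. -/
theorem tp_smooth (hB : SBC.{u} N) (hN : IsUnit (N : R)) (hQ : EtCoh.KilledBy N Q) (hQ0 : AllZero Q)
    (f : Y ⟶ Spec (CommRingCat.of R)) (U : Y.Opens) (hU : Smooth (U.ι ≫ f)) (y : Y) (hy : y ∈ U)
    (hfy : f y = IsLocalRing.closedPoint R) : TP f t Q y := by
  have hNS : IsUnit (N : Γ(Spec (CommRingCat.of R), ⊤)) := by
    have h1 := hN.map (Scheme.ΓSpecIso (CommRingCat.of R)).inv.hom
    rwa [map_natCast] at h1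
  have h1 : TP (U.ι ≫ f) t Q (⟨y, hy⟩ : U) := by
    obtain ⟨Ω, _, _, ζ, hζ⟩ := Etcore.Stalks.exists_geom (X := (U : Scheme.{u})) ⟨y, hy⟩
    refine TP.of_exists ζ hζ ?_
    have h2 : IsPullback (pullback.fst (U.ι ≫ f) t) (pullback.snd (U.ι ≫ f) t) ((U.ι ≫ f) ≫ 𝟙 _) t := by
      rw [Category.comp_id]
      exact IsPullback.of_hasPullback _ _
    rw [tl_iff hB hNS hQ (U.ι ≫ f) h2 ζ]
    have h3 : IsPullback t (𝟙 T) (𝟙 _ ≫ 𝟙 (Spec (CommRingCat.of R))) t := by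
      rw [Category.comp_id]
      exact IsPullback.of_vert_isIso ⟨by simp⟩
    have h4 := tl_iff hB hNS hQ (𝟙 (Spec (CommRingCat.of R))) h3 (ζ ≫ U.ι ≫ f)
    rw [Category.comp_id] at h4
    refine h4.1 (Tl.of_iso ((EtpbcA.PullFLC.pullId T).symm.app Q) (tl_base R t Q hQ0 _ ?_))
    rw [Scheme.Hom.comp_apply, hζ, Scheme.Hom.comp_apply]
    exact hfy
  exact (tp_comp hB hNS hQ U.ι ⟨y, hy⟩).1 h1

end SH

end Groth.Agent.Lefpen.H713.TLoc
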