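import Groth.Agent.Lefpen.H713.TSet
import Groth.Agent.Lefpen.H713.QuadBC
import Groth.Agent.Vancyc.H694.Origin

/-!
# `T`-calculus for quadrics

`R` strictly henselian, `a` a non-degenerate table over `R`, `b : R`, `Q(x) = b z²` isomorphic to
`Q(x) = z²` over `L`.  Then `TPt` holds at the points of the closed fibre of
`Spec R[x]/(Q - b) ⟶ Spec R`.
-/

set_option autoImplicit false
universe u
open CategoryTheory CategoryTheory.Limits AlgebraicGeometry Opposite VanCyc MvPolynomial

namespace Groth.Agent.Lefpen.H713.TQuad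

open Groth.Agent.Vancyc.H686.VanMV Groth.Agent.Vancyc.H679.PropLES
open TLoc TGlob TField TSet QuadGeo Groth.Agent.Vancyc.H694.StdT
open Groth.Agent.Lefpen.H713.HypProj Groth.Agent.Lefpen.H713.HypIso Groth.Agent.Lefpen.H713.QuadPD
open Groth.Agent.Vancyc.H517.HypJac Groth.Agent.Vancyc.H517.Homog

/-- Proper base change for all proper schemes over `Spec R`. -/
def PBCall (R : Type u) [CommRing R] [IsLocalRing R] : Prop :=
  ∀ (Y : Scheme.{u}) (f : Y ⟶ Spec (CommRingCat.of R)) (_ : IsProper f)
    (_ : PreservesFiniteLimits (EtCoh.pull (icl R f))), PBCi (icl R f)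

section iso

variable {R : Type u} [CommRing R] {N : ℕ} (a : Fin N → Fin N → R) (b : R) (L : Type u) [Field L]
  [Algebra R L]

/-- The quadrics `Q(x) = b z²` and `Q(x) = z²` are isomorphic over `L`. -/
def IsoOne : Prop := ∃ e : quad (fun i j => algebraMap R L (a i j)) (algebraMap R L b) ≅
    quad (fun i j => algebraMap R L (a i j)) (algebraMap R L 1),
  e.hom ≫ quadStr (fun i j => algebraMap R L (a i j)) (algebraMap R L 1) =
    quadStr (fun i j => algebraMap R L (a i j)) (algebraMap R L b)

variable {a b L}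

theorem isoOne_of_sq {s : L} (hs : s ≠ 0) (h : s ^ 2 = algebraMap R L b) : IsoOne a b L := by
  have key : ∀ β γ : L, β = s ^ 2 * γ → ∃ e : quad (fun i j => algebraMap R L (a i j)) β ≅
      quad (fun i j => algebraMap R L (a i j)) γ,
      e.hom ≫ quadStr (fun i j => algebraMap R L (a i j)) γ =
        quadStr (fun i j => algebraMap R L (a i j)) β := by
    rintro _ γ rfl
    exact exists_iso_sqrt (fun i j => algebraMap R L (a i j)) γ (Units.mk0 s hs)
  exact key _ _ (by rw [map_one, mul_one, h])

theorem isoOne_std {m : ℕ} (h : algebraMap R L b ≠ 0) : IsoOne (stdT R m) b L := by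
  have key : ∀ (t : Fin (2 * m) → Fin (2 * m) → L) (β γ : L), t = stdT L m → β ≠ 0 → β = β * γ →
      ∃ e : quad t β ≅ quad t γ, e.hom ≫ quadStr t γ = quadStr t β := by
    rintro _ β γ rfl hβ h1
    have h2 : γ = 1 := by
      have := mul_left_cancel₀ hβ (h1.symm.trans (mul_one β).symm)
      exact this
    subst h2
    have := exists_iso_std (m := m) (1 : L) (Units.mk0 β hβ)
    rwa [Units.val_mk0, mul_one] at this
  exact key _ _ _ (stdT_map (algebraMap R L) m) h (by rw [map_one, mul_one])

/-- Isomorphism of the fibres over `L`. -/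
theorem exists_fib_iso (h : IsoOne a b L) : ∃ e : fib R (quadStr a b) L ⟶ fib R (quadStr a 1) L,
    IsIso e ∧ e ≫ fibStr R (quadStr a 1) L = fibStr R (quadStr a b) L := by
  obtain ⟨e, he⟩ := h
  obtain ⟨g, sq⟩ := exists_isPullback (algebraMap R L) a b
  obtain ⟨g', sq'⟩ := exists_isPullback (algebraMap R L) a 1
  refine ⟨sq.isoPullback.inv ≫ e.hom ≫ sq'.isoPullback.hom, inferInstance, ?_⟩
  have h1 : sq'.isoPullback.hom ≫ fibStr R (quadStr a 1) L = quadStr _ _ := sq'.isoPullback_hom_snd
  have h2 : sq.isoPullback.inv ≫ quadStr _ _ = fibStr R (quadStr a b) L := sq.isoPullback_inv_snd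
  rw [Category.assoc, Category.assoc, h1, he, h2]

end iso

section SH

variable {R : Type u} [CommRing R] [HenselianLocalRing R] [IsSepClosed (IsLocalRing.ResidueField R)]
  {L Ω : Type u} [Field L] [Algebra R L] [Field Ω] [Algebra L Ω] {N : ℕ}
  {n : ℕ} {a : Fin (n + 1) → Fin (n + 1) → R} {b : R}

theorem tg_one (hP : PBCall R) (hB : SBC.{u} N) (hN0 : 0 < N) (hN : IsUnit (N : R))
    (h0 : AllZero (QQ L Ω N)) (ha : QuadNondeg a) : TG L Ω N (quadStr a 1) := by
  have i0 : PreservesFiniteLimits (EtCoh.pull (icl R (quadStr a 1))) := Groth.Agent.S0101.result _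
  have hs : SmoothOfRelativeDimension n (quadStr a 1) := smooth_quad 1 ha isUnit_one
  have hs' : Smooth (quadStr a 1) := SmoothOfRelativeDimension.smooth n _
  refine tg_of_tPt (hP _ _ inferInstance i0) hN0 fun x => ?_
  exact tPt_smooth hB hN h0 ⊤ inferInstance x trivial

theorem point_unique (y y' : Spec (CommRingCat.of (quadRing R a b)))
    (h1 : ∀ j, Ideal.Quotient.mk (Ideal.span {eqn a b}) (X j) ∈ y.asIdeal)
    (h1' : ∀ j, Ideal.Quotient.mk (Ideal.span {eqn a b}) (X j) ∈ y'.asIdeal)
    (h2 : (Spec.map (CommRingCat.ofHom (algebraMap R (quadRing R a b)))) y =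
      IsLocalRing.closedPoint R)
    (h2' : (Spec.map (CommRingCat.ofHom (algebraMap R (quadRing R a b)))) y' =
      IsLocalRing.closedPoint R) : y = y' := by
  have key : ∀ z : Spec (CommRingCat.of (quadRing R a b)),
      (∀ j, Ideal.Quotient.mk (Ideal.span {eqn a b}) (X j) ∈ z.asIdeal) →
      (Spec.map (CommRingCat.ofHom (algebraMap R (quadRing R a b)))) z = IsLocalRing.closedPoint R →
      ∀ p : MvPolynomial (Fin (n + 1)) R, Ideal.Quotient.mk (Ideal.span {eqn a b}) p ∈ z.asIdeal ↔
        constantCoeff p ∈ IsLocalRing.maximalIdeal R := by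
    intro z hz1 hz2 p
    have h3 : Ideal.span (Set.range (X : Fin (n + 1) → MvPolynomial (Fin (n + 1)) R)) ≤
        z.asIdeal.comap (Ideal.Quotient.mk (Ideal.span {eqn a b})) := by
      rw [Ideal.span_le]
      rintro _ ⟨j, rfl⟩
      exact hz1 j
    have h4 : p - C (constantCoeff p) ∈
        Ideal.span (Set.range (X : Fin (n + 1) → MvPolynomial (Fin (n + 1)) R)) :=
      Groth.Agent.Vancyc.H694.Origin.sub_C_mem p
    have h5 := h3 h4
    rw [Ideal.mem_comap, map_sub] at h5
    have h6 : Ideal.Quotient.mk (Ideal.span {eqn a b}) p ∈ z.asIdeal ↔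
        Ideal.Quotient.mk (Ideal.span {eqn a b}) (C (constantCoeff p)) ∈ z.asIdeal :=
      ⟨fun h => by simpa using z.asIdeal.sub_mem h h5, fun h => by simpa using z.asIdeal.add_mem h5 h⟩
    rw [h6]
    have h7 : ((Spec.map (CommRingCat.ofHom (algebraMap R (quadRing R a b)))) z).asIdeal =
        IsLocalRing.maximalIdeal R := congrArg PrimeSpectrum.asIdeal hz2
    rw [← h7]
    rfl
  apply PrimeSpectrum.ext
  ext r
  obtain ⟨p, rfl⟩ := Ideal.Quotient.mk_surjective r
  rw [key y h1 h2, key y' h1' h2']

/-- The local theorem for the affine quadric. -/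
theorem tPt_quad [IsNoetherianRing R] (hP : PBCall R) (hB : SBC.{u} N) (hN0 : 0 < N)
    (hN : IsUnit (N : R)) (h0 : AllZero (QQ L Ω N)) (ha : QuadNondeg a) (hI : IsoOne a b L)
    (y : Spec (CommRingCat.of (quadRing R a b)))
    (hy : (Spec.map (CommRingCat.ofHom (algebraMap R (quadRing R a b)))) y =
      IsLocalRing.closedPoint R) :
    TPt L Ω N (Spec.map (CommRingCat.ofHom (algebraMap R (quadRing R a b)))) y := by
  have i0 : PreservesFiniteLimits (EtCoh.pull (icl R (quadStr a b))) := Groth.Agent.S0101.result _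
  -- global vanishing
  obtain ⟨e, he1, he2⟩ := exists_fib_iso hI
  have hG : TG L Ω N (quadStr a b) := tg_of_iso e he2 (tg_one hP hB hN0 hN h0 ha)
  -- the set of critical points of the closed fibre
  let S : Set (spFib R (quadStr a b)) := {x | (icl R (quadStr a b)) x ∉ nsOpen (quadForm a b)}
  have hSc : IsClosed S := by
    have : Sᶜ = (icl R (quadStr a b)) ⁻¹' (nsOpen (quadForm a b) : Set (quad a b)) := by
      ext x
      simp [S]
    rw [← isOpen_compl_iff, this]
    exact (nsOpen (quadForm a b)).isOpen.preimage (icl R (quadStr a b)).continuous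
  have hcl : IsClosedImmersion (icl R (quadStr a b)) := by
    have h1 : IsClosedImmersion (toSk R) := by
      apply IsClosedImmersion.spec_of_surjective
      exact IsLocalRing.residue_surjective
    exact MorphismProperty.of_isPullback (IsPullback.of_hasPullback (quadStr a b) (toSk R)).flip h1
  have hSs : S.Subsingleton := by
    intro x hx x' hx'
    obtain ⟨z, hz, hz1, -⟩ := exists_of_notMem_nsOpen' b ha _ hx
    obtain ⟨z', hz', hz1', -⟩ := exists_of_notMem_nsOpen' b ha _ hx'
    have hz2 : (Spec.map (CommRingCat.ofHom (algebraMap R (quadRing R a b)))) z =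
        IsLocalRing.closedPoint R := by
      rw [← quadAff_str, Scheme.Hom.comp_apply, hz]
      exact icl_str_apply x
    have hz2' : (Spec.map (CommRingCat.ofHom (algebraMap R (quadRing R a b)))) z' =
        IsLocalRing.closedPoint R := by
      rw [← quadAff_str, Scheme.Hom.comp_apply, hz']
      exact icl_str_apply x'
    have h1 := point_unique z z' hz1 hz1' hz2 hz2'
    apply (icl R (quadStr a b)).isClosedEmbedding.injective
    rw [← hz, ← hz', h1]
  have hfin : S.Finite := hSs.finite
  have hmem : ∀ x, x ∈ hfin.toFinset ↔ x ∈ S := fun x => hfin.mem_toFinset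
  have hT := tPt_of_tg (f := quadStr a b) (L := L) (Ω := Ω) (N := N) (hP _ _ inferInstance i0) hN0
    hfin.toFinset (fun x hx => by
      have h1 : ({x} : Set (spFib R (quadStr a b))) = S :=
        (Set.subsingleton_iff_singleton ((hmem x).1 hx)).1 hSs |>.symm
      rw [h1]
      exact hSc) (fun x hx => by
      have h1 : (icl R (quadStr a b)) x ∈ nsOpen (quadForm a b) := by
        by_contra h
        exact hx ((hmem x).2 h)
      have h2 : SmoothOfRelativeDimension n ((nsOpen (quadForm a b)).ι ≫ quadStr a b) :=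
        smooth_nsOpen (quadForm a b)
      exact tPt_smooth hB hN h0 (nsOpen (quadForm a b)) (SmoothOfRelativeDimension.smooth n _) x h1) hG
  -- the point of the closed fibre
  have h3 : (quadStr a b) ((quadAff a b) y) = (toSk R) (IsLocalRing.closedPoint
      (IsLocalRing.ResidueField R)) := by
    rw [← Scheme.Hom.comp_apply, quadAff_str, hy]
    exact (IsLocalRing.comap_closedPoint (IsLocalRing.residue R)).symm
  obtain ⟨x, hx1, -⟩ := Scheme.Pullback.exists_preimage_pullback _ _ h3
  have h4 := hT x
  have h5 : (icl R (quadStr a b)) x = (quadAff a b) y := hx1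
  rw [h5] at h4
  have h6 := (tPt_comp (L := L) (Ω := Ω) (f := quadStr a b) hB hN (quadAff a b) y).2 h4
  rw [quadAff_str] at h6
  exact h6

end SH

end Groth.Agent.Lefpen.H713.TQuad
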