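import Groth.Agent.Lefpen.H713.TField
import Groth.Agent.Lefpen.H713.TGlob
import Groth.Agent.Lefpen.H713.TCd
import Groth.Agent.Vancyc.H675.AcycPt
import Groth.Agent.Vancyc.H694.StdT
import Groth.Agent.CurvesA.ClosedPtSep
import Groth.Agent.Etrest.ConstBasic
import Groth.Prelude.Def_VanCyc

/-!
# `T`-calculus over a strictly henselian local ring

`R` strictly henselian, `R → L → Ω`, `Ω/L` algebraic, `Ω` separably closed, all finite Galois extensions
of `L` of degree prime to `N`, `Q = coker (ℤ/N → (Spec Ω → Spec L)_* ℤ/N)`.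

* `TG f`: `H^*(Y_L, Q|Y_L) = 0`, for `f : Y ⟶ Spec R`.
* `TPt f y`: local vanishing at `y`.
* `tPt_iff_of_common`, `tPt_smooth`, `tg_of_tPt`, `tPt_of_tg`, `tg_iff_of_iso`.
* `galH_eq_id`: `TG f` implies that the automorphisms of `Ω` over `L` act trivially on `H^q(Y_Ω, ℤ/N)`.
-/

set_option autoImplicit false
set_option linter.unusedSectionVars false
universe u
open CategoryTheory CategoryTheory.Limits AlgebraicGeometry Opposite VanCyc

namespace Groth.Agent.Lefpen.H713.TSet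

open Groth.Agent.Vancyc.H686.VanMV Groth.Agent.EtpbcB.NKillEt Groth.Agent.Vancyc.H679.PropLES
open TLoc TGlob TField Groth.Agent.Vancyc.H694.StdT

theorem killedBy_const (X : Scheme.{u}) (N : ℕ) : EtCoh.KilledBy N (EtCoh.const X (ZMod N)) :=
  Etrest.ConstBasic.killedBy_const X (ZMod N) N (fun m => by
    rw [nsmul_eq_mul, ZMod.natCast_self, zero_mul])

section QQ

variable (L Ω : Type u) [Field L] [Field Ω] [Algebra L Ω] (N : ℕ)

/-- `coker (ℤ/N → (Spec Ω → Spec L)_* ℤ/N)`. -/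
noncomputable abbrev QQ : EtCoh.Ab (Spec (CommRingCat.of L)) :=
  Qg (toS L Ω) (EtCoh.const (Spec (CommRingCat.of L)) (ZMod N))

theorem killedBy_QQ : EtCoh.KilledBy N (QQ L Ω N) := killedBy_Qg _ _ (killedBy_const _ N)

instance isIntegralHom_toS [Algebra.IsIntegral L Ω] : IsIntegralHom (toS L Ω) := by
  rw [IsIntegralHom.SpecMap_iff]
  exact algebraMap_isIntegral_iff.2 inferInstance

theorem preconnected_spec_field (F : Type u) [Field F] : PreconnectedSpace (Spec (CommRingCat.of F)) :=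
  Vancyc.H675.AcycPt.preconnectedSpace_spec F

instance surjective_toS : Surjective (toS L Ω) := by
  refine ⟨fun x => ⟨(default : Spec (CommRingCat.of Ω)), Subsingleton.elim (α := Spec (CommRingCat.of L)) _ _⟩⟩

variable {L Ω N}

/-- `H^*(Spec L, Q) = 0`. -/
theorem allZero_QQ [Algebra.IsIntegral L Ω] [IsSepClosed Ω]
    (hK : ∀ (M : Type u) [Field M] [Algebra L M] [FiniteDimensional L M] [IsGalois L M],
      (Module.finrank L M).Coprime N) : AllZero (QQ L Ω N) := by
  have h0 : PreservesFiniteLimits (EtCoh.pull (toS L Ω)) := Groth.Agent.S0101.result _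
  have i1 := preconnected_spec_field L
  have i2 := preconnected_spec_field Ω
  refine allZero_Qg (toS L Ω) _ (fun q hq => TCd.subsingleton_H N hK _ (killedBy_const _ N) q hq)
    (fun q hq => ?_) ?_
  · refine TCd.subsingleton_H N (fun M _ _ _ _ => ?_) _ (killedBy_pull _ (killedBy_const _ N)) q hq
    have h1 : Module.finrank Ω M = 1 := by
      have h2 : Function.Surjective (algebraMap Ω M) := IsSepClosed.algebraMap_surjective Ω M
      let e : Ω ≃ₗ[Ω] M := LinearEquiv.ofBijective (Algebra.linearMap Ω M)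
        ⟨(algebraMap Ω M).injective, h2⟩
      rw [← e.finrank_eq, Module.finrank_self]
    rw [h1]
    exact Nat.coprime_one_left N
  · exact (Vancyc.H675.AcycPt.bijective_Hpull_zero (toS L Ω) _).2

end QQ

section calculus

variable {R : Type u} [CommRing R] (L Ω : Type u) [Field L] [Algebra R L] [Field Ω]
  [Algebra L Ω] (N : ℕ) {Y : Scheme.{u}} (f : Y ⟶ Spec (CommRingCat.of R))

/-- Global vanishing. -/
def TG : Prop := AllZero ((EtCoh.pull (fibStr R f L)).obj (QQ L Ω N))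

/-- Local vanishing at a point. -/
def TPt (y : Y) : Prop := TP f (toS R L) (QQ L Ω N) y

variable {L Ω N f}

theorem killedBy_pull_QQ : EtCoh.KilledBy N ((EtCoh.pull (fibStr R f L)).obj (QQ L Ω N)) :=
  killedBy_pull _ (killedBy_QQ L Ω N)

theorem isUnit_ΓSpec (hN : IsUnit (N : R)) : IsUnit (N : Γ(Spec (CommRingCat.of R), ⊤)) := by
  have h1 := hN.map (Scheme.ΓSpecIso (CommRingCat.of R)).inv.hom
  rwa [map_natCast] at h1

/-- Invariance under isomorphisms of the fibres over `L`. -/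
theorem tg_of_iso {Y' : Scheme.{u}} {f' : Y' ⟶ Spec (CommRingCat.of R)}
    (e : fib R f' L ⟶ fib R f L) [IsIso e] (he : e ≫ fibStr R f L = fibStr R f' L)
    (h : TG L Ω N f) : TG L Ω N f' := by
  have h1 := Vancyc.H686.Van.Van.of_isIso (N := N) e _ killedBy_pull_QQ h
  exact (Vancyc.H686.Van.allZero_comp he).1 h1

/-- Common étale neighbourhoods. -/
theorem tPt_of_common (hB : SBC.{u} N) (hN : IsUnit (N : R)) {Y' : Scheme.{u}}
    {f' : Y' ⟶ Spec (CommRingCat.of R)} {y : Y} {y' : Y'} (hc : HasCommonEt f f' y y')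
    (h : TPt L Ω N f' y') : TPt L Ω N f y := by
  obtain ⟨U, p, q, z, hp, hq, w, rfl, rfl⟩ := hc
  have hp' : Smooth p := inferInstance
  have hq' : Smooth q := inferInstance
  have hNS := isUnit_ΓSpec hN
  have h1 := (tp_comp hB hNS (killedBy_QQ L Ω N) (f := f') (t := toS R L) q z).2 h
  rw [← w] at h1
  exact (tp_comp hB hNS (killedBy_QQ L Ω N) (f := f) (t := toS R L) p z).1 h1

/-- Open (smooth) morphisms. -/
theorem tPt_comp (hB : SBC.{u} N) (hN : IsUnit (N : R)) {Y' : Scheme.{u}} (g : Y' ⟶ Y) [Smooth g]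
    (y : Y') : TPt L Ω N (g ≫ f) y ↔ TPt L Ω N f (g y) :=
  tp_comp hB (isUnit_ΓSpec hN) (killedBy_QQ L Ω N) g y

end calculus

section SH

variable {R : Type u} [CommRing R] [HenselianLocalRing R] [IsSepClosed (IsLocalRing.ResidueField R)]
  {L Ω : Type u} [Field L] [Algebra R L] [Field Ω] [Algebra L Ω] {N : ℕ} {Y : Scheme.{u}}
  {f : Y ⟶ Spec (CommRingCat.of R)}

theorem icl_str_apply (x : spFib R f) : f ((icl R f) x) = IsLocalRing.closedPoint R := by
  rw [← Scheme.Hom.comp_apply, show icl R f ≫ f = spStr R f ≫ toSk R from pullback.condition,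
    Scheme.Hom.comp_apply]
  have hy : (spStr R f) x = IsLocalRing.closedPoint (IsLocalRing.ResidueField R) :=
    Subsingleton.elim (α := PrimeSpectrum (IsLocalRing.ResidueField R)) _ _
  rw [hy]
  exact IsLocalRing.comap_closedPoint (IsLocalRing.residue R)

/-- Smooth points of the closed fibre. -/
theorem tPt_smooth (hB : SBC.{u} N) (hN : IsUnit (N : R)) (h0 : AllZero (QQ L Ω N)) (U : Y.Opens)
    (hU : Smooth (U.ι ≫ f)) (x : spFib R f) (hx : (icl R f) x ∈ U) : TPt L Ω N f ((icl R f) x) :=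
  tp_smooth hB hN (killedBy_QQ L Ω N) h0 f U hU _ hx (icl_str_apply x)

variable [PreservesFiniteLimits (EtCoh.pull (icl R f))] (hi : PBCi (icl R f))

include hi

/-- Local implies global. -/
theorem tg_of_tPt (hN : 0 < N) (h : ∀ x : spFib R f, TPt L Ω N f ((icl R f) x)) : TG L Ω N f :=
  allZero_of_tlAt (icl R f) hi (jA R f L) hN killedBy_pull_QQ h

/-- Global implies local, at isolated points. -/
theorem tPt_of_tg [LocallyOfFiniteType f] (hN : 0 < N) (Sig : Finset (spFib R f))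
    (hc : ∀ x ∈ Sig, IsClosed ({x} : Set (spFib R f)))
    (h : ∀ x : spFib R f, x ∉ Sig → TPt L Ω N f ((icl R f) x)) (h0 : TG L Ω N f) (x : spFib R f) :
    TPt L Ω N f ((icl R f) x) :=
  tlAt_of_allZero (icl R f) hi Sig hc
    (fun x hx => CurvesA.ClosedPtSep.isSepClosed_residueField (spStr R f) x (hc x hx)) (jA R f L) hN
    killedBy_pull_QQ h h0 x

end SH

section gal

variable {R : Type u} [CommRing R] {K : Type u} [Field K] [Algebra R K]
  {L Ω : Type u} [Field L] [Algebra R L] [Field Ω] [Algebra L Ω] [Algebra K Ω] [Algebra R Ω]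
  [IsScalarTower R K Ω] [IsScalarTower R L Ω] {N : ℕ} {Y : Scheme.{u}} (f : Y ⟶ Spec (CommRingCat.of R))

theorem toS_comp : toS L Ω ≫ toS R L = toS R Ω := by
  rw [← Spec.map_comp, ← CommRingCat.ofHom_comp, ← IsScalarTower.algebraMap_eq]

/-- `Y_Ω ⟶ Y_L`. -/
noncomputable def hLΩ : fib R f Ω ⟶ fib R f L :=
  pullback.lift (jA R f Ω) (fibStr R f Ω ≫ toS L Ω) (by
    rw [Category.assoc, toS_comp]
    exact pullback.condition)

theorem hLΩ_jA : hLΩ f (L := L) (Ω := Ω) ≫ jA R f L = jA R f Ω := pullback.lift_fst _ _ _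

theorem hLΩ_fibStr : hLΩ f (L := L) (Ω := Ω) ≫ fibStr R f L = fibStr R f Ω ≫ toS L Ω :=
  pullback.lift_snd _ _ _

theorem isPullback_hLΩ : IsPullback (fibStr R f Ω) (hLΩ f (L := L) (Ω := Ω)) (toS L Ω) (fibStr R f L) := by
  have h1 : IsPullback (fibStr R f L) (jA R f L) (toS R L) f := (IsPullback.of_hasPullback _ _).flip
  have h2 : IsPullback (fibStr R f Ω) (jA R f Ω) (toS L Ω ≫ toS R L) f := by
    rw [toS_comp]
    exact (IsPullback.of_hasPullback _ _).flip
  refine IsPullback.flip (IsPullback.of_right (h₁₁ := hLΩ f (L := L) (Ω := Ω)) (h₁₂ := jA R f L)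
    (v₁₁ := fibStr R f Ω) (v₁₂ := fibStr R f L) (v₁₃ := f) (h₂₁ := toS L Ω) (h₂₂ := toS R L) ?_
    (hLΩ_fibStr f) h1.flip)
  rw [hLΩ_jA]
  exact h2.flip

variable [Algebra.IsIntegral L Ω]

/-- Classes of `Y_Ω` come from `Y_L`. -/
theorem bijective_HpullVia (h : TG L Ω N f) [PreservesFiniteLimits (EtCoh.pull (hLΩ f (L := L) (Ω := Ω)))]
    (q : ℕ) : Function.Bijective (EtCore.HpullVia (hLΩ f (L := L) (Ω := Ω)) (jA R f L) (jA R f Ω)
      (hLΩ_jA f) (EtCoh.const Y (ZMod N)) q) := by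
  have h1 := bijective_Hpull_of_allZero (isPullback_hLΩ f (L := L) (Ω := Ω))
    (EtCoh.const (Spec (CommRingCat.of L)) (ZMod N)) h q
  refine Etrest.HpullConst.bijective_HpullVia _ _ _ _ _ _ ?_
  exact (Etrest.HpullConst.bijective_Hpull_iff_of_iso _ q
    ((EtCore.pullConst (fibStr R f L) (ZMod N)) ≪≫ (EtCore.pullConst (jA R f L) (ZMod N)).symm)).1 h1

/-- Automorphisms over `L` act trivially. -/
theorem galH_eq_id (h : TG L Ω N f) (σ : Ω ≃ₐ[K] Ω)
    (hσ : ∀ c : L, σ (algebraMap L Ω c) = algebraMap L Ω c)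
    [PreservesFiniteLimits (EtCoh.pull (galGeom f σ))] (q : ℕ) :
    galH f σ (EtCoh.const Y (ZMod N)) q = AddMonoidHom.id _ := by
  have i0 : PreservesFiniteLimits (EtCoh.pull (hLΩ f (L := L) (Ω := Ω))) := Groth.Agent.S0101.result _
  have hg : galGeom f σ ≫ hLΩ f (L := L) (Ω := Ω) = hLΩ f := by
    apply pullback.hom_ext
    · change (galGeom f σ ≫ hLΩ f (L := L) (Ω := Ω)) ≫ jA R f L = hLΩ f (L := L) (Ω := Ω) ≫ jA R f L
      rw [Category.assoc, hLΩ_jA, galGeom_jA]
    · change (galGeom f σ ≫ hLΩ f (L := L) (Ω := Ω)) ≫ fibStr R f L =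
        hLΩ f (L := L) (Ω := Ω) ≫ fibStr R f L
      rw [Category.assoc, hLΩ_fibStr, ← Category.assoc]
      have h2 : galGeom f σ ≫ fibStr R f Ω =
          fibStr R f Ω ≫ Spec.map (CommRingCat.ofHom (σ : Ω →+* Ω)) := pullback.lift_snd _ _ _
      rw [h2, Category.assoc, ← Spec.map_comp, ← CommRingCat.ofHom_comp]
      congr 3
      ext c
      exact hσ c
  ext x
  obtain ⟨y, rfl⟩ := (bijective_HpullVia f (L := L) (Ω := Ω) h q).2 x
  exact EtpbcB.HRel.HpullVia_comp (galGeom f σ) (hLΩ f) (hLΩ f) (jA R f Ω) (jA R f Ω) (jA R f L) hg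
    (galGeom_jA f σ) (hLΩ_jA f) (hLΩ_jA f) (EtCoh.const Y (ZMod N)) q y

end gal

end Groth.Agent.Lefpen.H713.TSet
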