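import Groth.Agent.Lefpen.H713.RingPt
import Groth.Agent.Etrest.StrictLoc
import Groth.Agent.Etrest.VCBaseChange
import Groth.Agent.Sga4h.X144Geo1
import Groth.Agent.Hensel.Exist
import Groth.Agent.S0538

/-!
# The strict henselization of the projective line at a rational point

`k` algebraically closed, `c : k`.

* `pt k c`: the point `t = c`; `isDVR_stalk`;
* `IsTrait k c R t`: the `k`-algebra `R` (local) with the element `t` is a strict localization of `P^1` at `t = c`;
* `exists_isTrait`: existence, with `R` a discrete valuation ring;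
* `IsTrait.residue_bijective`, `IsTrait.irreducible`, `IsTrait.existsUnique`: universal property.
-/

set_option autoImplicit false

open CategoryTheory AlgebraicGeometry MvPolynomial IsLocalRing
open Groth.Agent.Sga5.ProjChart Groth.Agent.Sga5.ProjSmooth Groth.Agent.Etrest.StrictLoc
open Groth.Agent.Lefpen.H713.RingPt

universe u

namespace Groth.Agent.Lefpen.H713.Trait1

variable (k : Type u) [Field k] (c : k)

/-- the prime ideal of the point `t = c` in the chart -/
noncomputable def ptPrime : PrimeSpectrum (MvPolynomial (Fin 1) k) :=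
  ⟨RingHom.ker (ev k k c), RingHom.ker_isPrime _⟩

/-- the point `t = c` of the projective line -/
noncomputable def pt : CohB1.ProjSpace 1 k := ringPt k k c (closedPoint k)

theorem pt_eq : pt k c = chart 1 k 0 (ptPrime k c) := by
  rw [pt, ringPt, Scheme.Hom.comp_apply]
  congr 1
  apply PrimeSpectrum.ext
  ext x
  change ev k k c x ∈ maximalIdeal k ↔ _
  rw [mem_maximalIdeal]
  change ¬ IsUnit _ ↔ ev k k c x = 0
  rw [isUnit_iff_ne_zero, not_not]

theorem mem_ptPrime (p : MvPolynomial (Fin 1) k) : p ∈ (ptPrime k c).asIdeal ↔ ev k k c p = 0 :=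
  Iff.rfl

theorem isPrincipalIdealRing_poly : IsPrincipalIdealRing (MvPolynomial (Fin 1) k) := by
  have e : MvPolynomial (Fin 1) k ≃+* Polynomial k :=
    (MvPolynomial.uniqueAlgEquiv k (Fin 1)).toRingEquiv
  exact IsPrincipalIdealRing.of_surjective e.symm.toRingHom e.symm.surjective

theorem ptPrime_ne_bot : (ptPrime k c).asIdeal ≠ ⊥ := by
  intro h
  have h1 : (X 0 - C c : MvPolynomial (Fin 1) k) ∈ (ptPrime k c).asIdeal := by
    rw [mem_ptPrime, map_sub, ev_X, ev_C]
    exact sub_self c
  rw [h, Ideal.mem_bot, sub_eq_zero] at h1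
  have h2 := congrArg (ev k k (c + 1)) h1
  rw [ev_X, ev_C] at h2
  simp at h2

/-- the maximal ideal of the point is generated by `t - c` -/
theorem ptPrime_eq_span : (ptPrime k c).asIdeal = Ideal.span {X 0 - C c} := by
  apply le_antisymm
  · intro p hp
    rw [mem_ptPrime] at hp
    have key : ∀ p : MvPolynomial (Fin 1) k, p - C (ev k k c p) ∈
        Ideal.span {(X 0 - C c : MvPolynomial (Fin 1) k)} := by
      intro p
      induction p using MvPolynomial.induction_on with
      | C a => rw [ev_C]; simp
      | add p q hp hq =>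
        rw [map_add, map_add, add_sub_add_comm]
        exact add_mem hp hq
      | mul_X p j hp =>
        rw [Fin.fin_one_eq_zero j, map_mul, ev_X, map_mul]
        have h1 : p * X 0 - C (ev k k c p) * C c = p * (X 0 - C c) + (p - C (ev k k c p)) * C c := by
          ring
        rw [h1]
        exact add_mem (Ideal.mul_mem_left _ _ (Ideal.mem_span_singleton_self _))
          (Ideal.mul_mem_right _ _ hp)
    have h1 := key p
    rw [hp, map_zero, sub_zero] at h1
    exact h1
  · rw [Ideal.span_singleton_le_iff_mem, mem_ptPrime, map_sub, ev_X, ev_C]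
    exact sub_self c

section Gen

/-- the local ring at a point of an affine chart -/
theorem exists_stalkIso {S : Scheme.{u}} {B : CommRingCat.{u}} (f : Spec B ⟶ S) [IsOpenImmersion f]
    (y : Spec B) : ∃ e : (Spec B).presheaf.stalk y ≅ S.presheaf.stalk (f y),
      Spec.map (StructureSheaf.toStalk B y ≫ e.hom) ≫ f = S.fromSpecStalk (f y) := by
  have h5 := Scheme.SpecMap_stalkMap_fromSpecStalk f (x := y)
  rw [Spec.fromSpecStalk_eq'] at h5
  refine ⟨(asIso (f.stalkMap y)).symm, ?_⟩
  rw [Spec.map_comp, Category.assoc]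
  refine (congrArg (fun g => Spec.map (asIso (f.stalkMap y)).symm.hom ≫ g) h5.symm).trans ?_
  rw [← Category.assoc, ← Spec.map_comp]
  simp

theorem maximalIdeal_eq_of_equiv {B A A' : Type u} [CommRing B] [CommRing A] [CommRing A'] [Algebra B A]
    (P : Ideal B) [P.IsPrime] [IsLocalization.AtPrime A P] [IsLocalRing A] [IsLocalRing A']
    (e : A ≃+* A') (b : B) (hb : P = Ideal.span {b}) :
    maximalIdeal A' = Ideal.span {e (algebraMap B A b)} := by
  have h7 : (maximalIdeal A).map (e : A →+* A') = maximalIdeal A' := by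
    have : ((maximalIdeal A).map (e : A →+* A')).IsMaximal := Ideal.map_isMaximal_of_equiv e
    exact IsLocalRing.eq_maximalIdeal this
  have h8 := IsLocalization.AtPrime.map_eq_maximalIdeal P A
  rw [← h7, ← h8, hb, Ideal.map_span, Ideal.map_span, Set.image_singleton, Set.image_singleton]
  rfl

theorem exists_dvr_of_equiv {B A A' : Type u} [CommRing B] [CommRing A] [CommRing A'] [Algebra B A]
    [IsDomain B] [IsPrincipalIdealRing B]
    (P : Ideal B) [P.IsPrime] (hP : P ≠ ⊥) [IsLocalization.AtPrime A P] 
    (e : A ≃+* A') : ∃ (_ : IsDomain A'), IsDiscreteValuationRing A' := by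
  have hd : IsDomain A := IsLocalization.isDomain_of_atPrime A (P := P)
  have hdvr : IsDiscreteValuationRing A :=
    IsLocalization.AtPrime.isDiscreteValuationRing_of_dedekind_domain B hP A
  have h3 : IsDomain A' := MulEquiv.isDomain _ e.symm.toMulEquiv
  exact ⟨h3, IsDiscreteValuationRing.RingEquivClass.isDiscreteValuationRing e⟩

end Gen

/-- the local ring of the line at `t = c`: a discrete valuation ring with uniformizer `t - c` -/
theorem exists_stalk_data :
    ∃ (_ : IsDomain ((CohB1.ProjSpace 1 k).presheaf.stalk (pt k c)))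
      (_ : IsDiscreteValuationRing ((CohB1.ProjSpace 1 k).presheaf.stalk (pt k c)))
      (φ : MvPolynomial (Fin 1) k →+* ((CohB1.ProjSpace 1 k).presheaf.stalk (pt k c))),
      Spec.map (CommRingCat.ofHom φ) ≫ chart 1 k 0 = (CohB1.ProjSpace 1 k).fromSpecStalk (pt k c) ∧
      maximalIdeal ((CohB1.ProjSpace 1 k).presheaf.stalk (pt k c)) =
        Ideal.span {φ (X 0 - C c)} := by
  rw [pt_eq]
  have hP := isPrincipalIdealRing_poly k
  obtain ⟨e, he⟩ := exists_stalkIso (chart 1 k 0) (ptPrime k c)
  let al : Algebra (MvPolynomial (Fin 1) k)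
    ((Spec (CommRingCat.of (MvPolynomial (Fin 1) k))).presheaf.stalk (ptPrime k c)) :=
    StructureSheaf.stalkAlgebra (MvPolynomial (Fin 1) k) (ptPrime k c)
  have hloc : IsLocalization.AtPrime
      ((Spec (CommRingCat.of (MvPolynomial (Fin 1) k))).presheaf.stalk (ptPrime k c))
      (ptPrime k c).asIdeal := StructureSheaf.IsLocalization.to_stalk _ (ptPrime k c)
  obtain ⟨h3, h4⟩ := exists_dvr_of_equiv (ptPrime k c).asIdeal (ptPrime_ne_bot k c)
    e.commRingCatIsoToRingEquiv
  refine ⟨h3, h4, (StructureSheaf.toStalk (MvPolynomial (Fin 1) k) (ptPrime k c) ≫ e.hom).hom, he, ?_⟩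
  exact maximalIdeal_eq_of_equiv (ptPrime k c).asIdeal e.commRingCatIsoToRingEquiv _ (ptPrime_eq_span k c)

end Groth.Agent.Lefpen.H713.Trait1
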